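import Groth.Agent.Lib.AlgSpDescent.LocSurj
import Groth.Agent.Lib.AlgSpace.Space

/-! Calculus of maps out of representable fppf sheaves. -/

universe u

open CategoryTheory CategoryTheory.Limits AlgebraicGeometry Opposite

set_option linter.style.haveILetI false
set_option linter.unusedSectionVars false
set_option backward.isDefEq.respectTransparency false
set_option backward.isDefEq.respectTransparency.types false

namespace Groth.Agent.SpQuot16

open AlgSp Groth.Agent.AlgSpace

variable {S : Scheme.{u}} {F F' : Sp S}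

lemma sect_map {V W : Over S} (f : W ⟶ V) (x : (yon S).obj V ⟶ F) :
    sect ((yon S).map f ≫ x) = F.obj.map f.op (sect x) :=
  (GrothendieckTopology.uliftYonedaEquiv_naturality _ _ _).symm

lemma map_sect_symm {V W : Over S} (f : W ⟶ V) (x : F.obj.obj (op V)) :
    (yon S).map f ≫ sect.symm x = sect.symm (F.obj.map f.op x) := by
  apply sect.injective
  rw [sect_map, Equiv.apply_symm_apply, Equiv.apply_symm_apply]

lemma sect_comp {V : Over S} (x : (yon S).obj V ⟶ F) (h : F ⟶ F') :
    sect (x ≫ h) = h.hom.app _ (sect x) :=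
  GrothendieckTopology.uliftYonedaEquiv_comp _ _ _

/-- maps out of a representable sheaf glue along covering sieves -/
theorem existsUnique_glue {V : Over S} {W : Sieve V} (hW : W ∈ AlgSp.J S V)
    (x : ∀ {Z : Over S} (l : Z ⟶ V), W l → ((yon S).obj Z ⟶ F))
    (hx : ∀ {Z Z' : Over S} (m : Z' ⟶ Z) (l : Z ⟶ V) (hl : W l),
      (yon S).map m ≫ x l hl = x (m ≫ l) (W.downward_closed hl m)) :
    ∃! y : (yon S).obj V ⟶ F, ∀ {Z : Over S} (l : Z ⟶ V) (hl : W l), (yon S).map l ≫ y = x l hl := by
  let fam : Presieve.FamilyOfElements F.obj W.arrows := fun Z l hl => sect (x l hl)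
  have hc : fam.Compatible := by
    rw [Presieve.compatible_iff_sieveCompatible]
    intro Z Z' l m hl
    show sect (x (m ≫ l) _) = F.obj.map m.op (sect (x l hl))
    rw [← sect_map, hx m l hl]
  obtain ⟨t, ht, hu⟩ := (isSheaf_iff_isSheaf_of_type _ _).1 F.property W hW fam hc
  refine ⟨sect.symm t, fun {Z} l hl => sect.injective ?_, fun y hy => ?_⟩
  · rw [sect_map, Equiv.apply_symm_apply]
    exact ht l hl
  · rw [Equiv.eq_symm_apply]
    exact hu _ fun Z l hl => (sect_map l y).symm.trans (congrArg sect (hy l hl))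

/-- maps out of a representable sheaf are determined on covering sieves -/
theorem hom_ext_sieve {V : Over S} {W : Sieve V} (hW : W ∈ AlgSp.J S V)
    {y y' : (yon S).obj V ⟶ F}
    (h : ∀ {Z : Over S} (l : Z ⟶ V), W l → (yon S).map l ≫ y = (yon S).map l ≫ y') : y = y' :=
  (existsUnique_glue hW (fun l _ => (yon S).map l ≫ y') fun m l _ => by
    rw [← Functor.map_comp_assoc]).unique h fun _ _ => rfl

/-- a morphism of sheaves from its values on maps out of representable sheaves -/
noncomputable def homOfYon (α : ∀ V : Over S, ((yon S).obj V ⟶ F) → ((yon S).obj V ⟶ F'))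
    (h : ∀ {V W : Over S} (f : W ⟶ V) (x : (yon S).obj V ⟶ F),
      α W ((yon S).map f ≫ x) = (yon S).map f ≫ α V x) : F ⟶ F' :=
  ObjectProperty.homMk
    { app := fun V => TypeCat.ofHom fun x => sect (α V.unop (sect.symm x))
      naturality := fun V W f => by
        ext x
        exact (congrArg (fun y => sect (α W.unop y)) (map_sect_symm f.unop x).symm).trans
          ((congrArg sect (h f.unop (sect.symm x))).trans (sect_map f.unop _)) }

lemma comp_homOfYon (α : ∀ V : Over S, ((yon S).obj V ⟶ F) → ((yon S).obj V ⟶ F'))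
    (h : ∀ {V W : Over S} (f : W ⟶ V) (x : (yon S).obj V ⟶ F),
      α W ((yon S).map f ≫ x) = (yon S).map f ≫ α V x)
    {V : Over S} (x : (yon S).obj V ⟶ F) : x ≫ homOfYon α h = α V x := by
  apply sect.injective
  rw [sect_comp]
  show sect (α V (sect.symm (sect x))) = _
  rw [Equiv.symm_apply_apply]

/-- cartesian squares are detected on maps out of representable sheaves -/
theorem isPullback_of_yon {P A B C : Sp S} {fst : P ⟶ A} {snd : P ⟶ B} {f : A ⟶ C} {g : B ⟶ C}
    (w : fst ≫ f = snd ≫ g)
    (h : ∀ (T : Over S) (a : (yon S).obj T ⟶ A) (b : (yon S).obj T ⟶ B), a ≫ f = b ≫ g →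
      ∃! z : (yon S).obj T ⟶ P, z ≫ fst = a ∧ z ≫ snd = b) : IsPullback fst snd f g := by
  let m : P ⟶ pullback f g := pullback.lift fst snd w
  have : IsIso m := AlgSpDescent.isIso_of_bijective_maps m fun T t => by
    obtain ⟨z, ⟨hz₁, hz₂⟩, hu⟩ := h T (t ≫ pullback.fst f g) (t ≫ pullback.snd f g)
      (by rw [Category.assoc, Category.assoc, pullback.condition])
    refine ⟨z, pullback.hom_ext ?_ ?_, fun z' hz' => hu z' ⟨?_, ?_⟩⟩
    · rw [Category.assoc, pullback.lift_fst, hz₁]
    · rw [Category.assoc, pullback.lift_snd, hz₂]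
    · rw [← hz', Category.assoc, pullback.lift_fst]
    · rw [← hz', Category.assoc, pullback.lift_snd]
  exact IsPullback.of_iso_pullback ⟨w⟩ (asIso m) (pullback.lift_fst _ _ _) (pullback.lift_snd _ _ _)

end Groth.Agent.SpQuot16
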