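import Groth.Agent.Lib.SpQuot16.Basic
import Groth.Agent.Lib.Quot16.Local
import Groth.Agent.Lib.AlgSpace.FppfLocal
import Groth.Agent.Lib.StAlg16.LocPInst
import Groth.Agent.Lib.StAlg16.AtlasEt
import Groth.Agent.Lib.FC16.Stack
import Groth.Prelude.Def_AlgSt3

/-! Local structure of fppf sheaf torsors under group algebraic spaces. -/

universe u

open CategoryTheory CategoryTheory.Limits MonoidalCategory CartesianMonoidalCategory MonObj GrpObj
  AlgebraicGeometry

set_option linter.style.haveILetI false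
set_option linter.unusedSectionVars false
set_option linter.unusedSimpArgs false
set_option backward.isDefEq.respectTransparency false
set_option backward.isDefEq.respectTransparency.types false

namespace Groth.Agent.SpQuot16

open AlgSt

variable {S : Scheme.{u}} {B : AlgSp.Sp S} {G : Over B} [GrpObj G] {X : Over B} {aX : AlgSp.GAction G X}

omit [GrpObj G] in
lemma isPullback_left_unit' (W : Over B) : IsPullback (fst G W).left (snd G W).left G.hom W.hom := by
  have h := (isPullback_fst_snd' G W).map (Over.forget B)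
  have e1 : (toUnit G).left = G.hom := (Category.comp_id _).symm.trans (Over.w (toUnit G))
  have e2 : (toUnit W).left = W.hom := (Category.comp_id _).symm.trans (Over.w (toUnit W))
  simp only [Over.forget_map, e1, e2] at h
  exact h

omit [GrpObj G] in
lemma isAlgSpace_tensor (hB : AlgSp.IsAlgSpace B) (hG : AlgSp.IsAlgSpace G.left) (W : Over B)
    (hW : AlgSp.IsAlgSpace W.left) : AlgSp.IsAlgSpace (G ⊗ W).left :=
  AlgSpace.isAlgSpace_pullback hB hG hW (isPullback_left_unit' W)

variable {K : Precoverage Scheme.{u}}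

/-- a section over a test scheme trivialises the torsor there -/
lemma exists_isPullback_triv (A : SpQuotObj K G aX) {T : Over S} (f : T ⟶ A.base)
    (h : ∃ s : (AlgSp.yon S).obj T ⟶ A.P.left, s ≫ A.π.left = (AlgSp.yon S).map f) :
    ∃ t, IsPullback t (snd G (Over.mk ((AlgSp.yon S).map f ≫ A.b))).left A.π.left
      ((AlgSp.yon S).map f) := by
  obtain ⟨s, hs⟩ := h
  let W : Over B := Over.mk ((AlgSp.yon S).map f ≫ A.b)
  let σ : W ⟶ A.P := Over.homMk s (by
    show s ≫ A.P.hom = (AlgSp.yon S).map f ≫ A.b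
    rw [← Over.w A.π, ← Category.assoc, hs]
    rfl)
  have sq := (isPullback_pt A σ).map (Over.forget B)
  have e : (Over.forget B).map (σ ≫ A.π) = (AlgSp.yon S).map f := hs
  rw [e] at sq
  exact ⟨_, sq⟩

/-- an fppf family of test schemes over which a torsor is trivial -/
theorem exists_triv (A : SpQuotObj Scheme.fppfPrecoverage G aX) :
    ∃ (κ : Type u) (T : κ → Over S) (f : ∀ k, T k ⟶ A.base),
      (∀ k, Flat (f k).left) ∧ (∀ k, LocallyOfFinitePresentation (f k).left) ∧
      (∀ x : A.base.left, ∃ k y, (f k).left y = x) ∧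
      ∀ k, ∃ t, IsPullback t (snd G (Over.mk ((AlgSp.yon S).map (f k) ≫ A.b))).left A.π.left
        ((AlgSp.yon S).map (f k)) := by
  obtain ⟨R, hR, hs⟩ := A.loc
  obtain ⟨hjs, hp⟩ := Quot16.mem_fppf_iff hR
  choose Z f hf z hz using hjs
  refine ⟨A.base.left, fun y => Over.mk (f y ≫ A.base.hom), fun y => Over.homMk (f y) rfl,
    fun y => (hp (hf y)).1, fun y => (hp (hf y)).2, fun y => ⟨y, z y, hz y⟩,
    fun y => exists_isPullback_triv A _ (hs (f y) (hf y))⟩

/-- the base changes of the trivialising family form an fppf covering -/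
lemma isFppfCover_of_family {U : Over S} {κ : Type u} {T : κ → Over S} (f : ∀ k, T k ⟶ U)
    (h1 : ∀ k, Flat (f k).left) (h2 : ∀ k, LocallyOfFinitePresentation (f k).left)
    (h3 : ∀ x : U.left, ∃ k y, (f k).left y = x) :
    AlgSp.IsFppfCover (fun k => (AlgSp.yon S).obj (T k)) (fun k => (AlgSp.yon S).map (f k)) := by
  refine ⟨fun k => ⟨(StAlg16.locP_yon_iff (f k)).2 (h1 k), (StAlg16.locP_yon_iff (f k)).2 (h2 k)⟩,
    fun x => ?_⟩
  obtain ⟨t, rfl⟩ := (AlgSp.Points.schemeHomeo U).surjective x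
  obtain ⟨k, s, rfl⟩ := h3 t
  exact ⟨k, AlgSp.Points.schemeHomeo (T k) s, AlgSp.Points.map_yon_map_apply (f k) s⟩

/-- a sheaf over a scheme which is a space over the members of an fppf family is a space -/
theorem isAlgSpace_of_family {U : Over S} {F : AlgSp.Sp S} (p : F ⟶ (AlgSp.yon S).obj U) {κ : Type u}
    {T : κ → Over S} (f : ∀ k, T k ⟶ U)
    (h1 : ∀ k, Flat (f k).left) (h2 : ∀ k, LocallyOfFinitePresentation (f k).left)
    (h3 : ∀ x : U.left, ∃ k y, (f k).left y = x)
    (h4 : ∀ k, AlgSp.IsAlgSpace (pullback p ((AlgSp.yon S).map (f k)))) : AlgSp.IsAlgSpace F := by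
  let C : Over S := Over.mk (Sigma.desc (fun k => (f k).left) ≫ U.hom)
  let q : C ⟶ U := Over.homMk (Sigma.desc fun k => (f k).left) rfl
  let jj : ∀ k, T k ⟶ C := fun k => Over.homMk (Sigma.ι (fun k => (T k).left) k) (by
    show Sigma.ι (fun k => (T k).left) k ≫ Sigma.desc (fun k => (f k).left) ≫ U.hom = (T k).hom
    rw [Sigma.ι_desc_assoc, Over.w (f k)])
  have hιq : ∀ k, jj k ≫ q = f k := fun k => Over.OverMorphism.ext (Sigma.ι_desc _ _)
  have hcov : ∀ x : ↥C.left, ∃ k y, (jj k).left y = x := fun x => by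
    obtain ⟨k, y, hy⟩ := (sigmaOpenCover fun i => (T i).left).exists_eq x
    exact ⟨k, y, hy⟩
  have sqC := IsPullback.of_hasPullback p ((AlgSp.yon S).map q)
  have hP' : AlgSp.IsAlgSpace (pullback p ((AlgSp.yon S).map q)) := by
    refine AlgSpace.isAlgSpace_of_disjoint jj (fun i => inferInstanceAs (IsOpenImmersion (Sigma.ι _ i))) hcov
      (fun i j hij y z e => ?_) (pullback.snd p ((AlgSp.yon S).map q)) fun i => ?_
    · have hd := disjoint_opensRange_sigmaι (fun k => (T k).left) i j hij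
      rw [disjoint_iff_inf_le] at hd
      exact hd (show _ ∈ (Sigma.ι (fun k => (T k).left) i).opensRange ⊓
        (Sigma.ι (fun k => (T k).left) j).opensRange from ⟨⟨y, rfl⟩, ⟨z, e.symm⟩⟩)
    · have sq' := (IsPullback.of_hasPullback (pullback.snd p ((AlgSp.yon S).map q))
        ((AlgSp.yon S).map (jj i))).paste_horiz sqC
      rw [← Functor.map_comp, hιq] at sq'
      exact (h4 i).of_iso ((IsPullback.of_hasPullback _ _).isoIsPullback _ _ sq')
  have hq1 : Flat q.left := IsZariskiLocalAtSource.sigmaDesc (P := @Flat) h1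
  have hq2 : LocallyOfFinitePresentation q.left :=
    IsZariskiLocalAtSource.sigmaDesc (P := @LocallyOfFinitePresentation) h2
  have hq3 : Surjective q.left := ⟨fun x => by
    obtain ⟨k, y, hy⟩ := h3 x
    refine ⟨(jj k).left y, ?_⟩
    rw [← Scheme.Hom.comp_apply, ← Over.comp_left, hιq]
    exact hy⟩
  refine AlgSpace.isAlgSpace_of_fppf (pullback.fst p ((AlgSp.yon S).map q)) hP' ?_ ?_ ?_
  · exact AlgSpace.repWith_of_isPullback sqC.flip ((AlgSp.repWith_yon_map_iff @Flat q).2 hq1)
  · exact AlgSpace.repWith_of_isPullback sqC.flip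
      ((AlgSp.repWith_yon_map_iff @LocallyOfFinitePresentation q).2 hq2)
  · exact AlgSpace.repWith_of_isPullback sqC.flip ((AlgSp.repWith_yon_map_iff @Surjective q).2 hq3)

/-- the total space of a torsor under a group algebraic space is an algebraic space -/
theorem isAlgSpace_P (hB : AlgSp.IsAlgSpace B) (hG : AlgSp.IsAlgSpace G.left)
    (A : SpQuotObj Scheme.fppfPrecoverage G aX) : AlgSp.IsAlgSpace A.P.left := by
  obtain ⟨κ, T, f, h1, h2, h3, h4⟩ := exists_triv A
  refine isAlgSpace_of_family A.π.left f h1 h2 h3 fun i => ?_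
  obtain ⟨t, sq⟩ := h4 i
  exact (isAlgSpace_tensor hB hG (Over.mk ((AlgSp.yon S).map (f i) ≫ A.b))
    (AlgSp.IsAlgSpace.yon_obj (T i))).of_iso sq.isoPullback

/-- properties local on the base pass from `G` to torsors -/
theorem π_prop {P : MorphismProperty (AlgSp.Sp S)}
    (hloc : AlgSp.IsLocalOnBase AlgSp.IsFppfCover P) (hB : AlgSp.IsAlgSpace B)
    (hG : AlgSp.IsAlgSpace G.left)
    (hP : ∀ W : Over B, AlgSp.IsAlgSpace W.left → P (snd G W).left) (A : SpQuotObj Scheme.fppfPrecoverage G aX) :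
    P A.π.left := by
  obtain ⟨κ, T, f, h1, h2, h3, h4⟩ := exists_triv A
  choose t sq using h4
  let W : κ → Over B := fun k => Over.mk ((AlgSp.yon S).map (f k) ≫ A.b)
  refine (hloc (fun k => (AlgSp.yon S).obj (T k)) (fun k => (AlgSp.yon S).map (f k))
    (AlgSp.IsAlgSpace.yon_obj _) (fun k => AlgSp.IsAlgSpace.yon_obj _)
    (isFppfCover_of_family f h1 h2 h3) A.π.left (isAlgSpace_P hB hG A)
    (fun k => (G ⊗ W k).left) (fun k => (snd G (W k)).left) t
    (fun k => isAlgSpace_tensor hB hG (W k) (AlgSp.IsAlgSpace.yon_obj (T k))) sq).2 fun k => ?_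
  exact hP (W k) (AlgSp.IsAlgSpace.yon_obj (T k))

/-- torsors are surjective -/
theorem π_surjective (A : SpQuotObj Scheme.fppfPrecoverage G aX) : AlgSp.IsSurjectiveMor A.π.left := by
  intro x
  obtain ⟨t, rfl⟩ := (AlgSp.Points.schemeHomeo A.base).surjective x
  obtain ⟨R, hR, hs⟩ := A.loc
  obtain ⟨T', f, hf, z, hz⟩ := (Quot16.mem_fppf_iff hR).1 t
  obtain ⟨s, hs⟩ := hs f hf
  refine ⟨AlgSp.Points.map s (AlgSp.Points.schemeHomeo _ z), ?_⟩
  rw [← AlgSp.Points.map_comp, hs, AlgSp.Points.map_yon_map_apply]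
  exact congrArg _ hz

variable (G aX) in
theorem isEquivOver_subIncl (hB : AlgSp.IsAlgSpace B) (hG : AlgSp.IsAlgSpace G.left) :
    FibCat.IsEquivOver (subIncl (SpQuotSt Scheme.fppfPrecoverage G aX)
      (fun A => AlgSp.IsAlgSpace A.P.left)) := by
  haveI : (subIncl (SpQuotSt Scheme.fppfPrecoverage G aX)
      (fun A => AlgSp.IsAlgSpace A.P.left)).toFunctor.Full := by
    show (ObjectProperty.ι _).Full
    infer_instance
  haveI : (subIncl (SpQuotSt Scheme.fppfPrecoverage G aX)
      (fun A => AlgSp.IsAlgSpace A.P.left)).toFunctor.Faithful := by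
    show (ObjectProperty.ι _).Faithful
    infer_instance
  refine FC16.isEquivOver_of _ fun z => ⟨⟨z, isAlgSpace_P hB hG z⟩, Iso.refl z, ?_⟩
  exact IsHomLift.map (SpQuotSt Scheme.fppfPrecoverage G aX).p (𝟙 z)

end Groth.Agent.SpQuot16
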