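import Groth.Agent.Lib.SpQuot16.Glue

/-! Descent of morphisms of sheaves along a cartesian family. -/

universe u

open CategoryTheory CategoryTheory.Limits AlgebraicGeometry Opposite

set_option linter.style.haveILetI false
set_option linter.unusedSectionVars false
set_option backward.isDefEq.respectTransparency false
set_option backward.isDefEq.respectTransparency.types false

namespace Groth.Agent.SpQuot16

open AlgSp Groth.Agent.AlgSpace

variable {S : Scheme.{u}}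

/-- a sheaf with a family of charts cartesian over the members of a sieve -/
structure CartFam {U : Over S} (R : Sieve U) (P : Sp S) (p : P ⟶ (yon S).obj U) where
  /-- the members -/
  Q : Ix R → Sp S
  /-- projections -/
  π : ∀ c, Q c ⟶ (yon S).obj c.obj.left
  /-- transition maps -/
  tr : ∀ {a b : Ix R}, (a ⟶ b) → (Q a ⟶ Q b)
  tr_π : ∀ {a b : Ix R} (g : a ⟶ b), tr g ≫ π b = π a ≫ (yon S).map g.hom.left
  /-- maps to the glued object -/
  q : ∀ c, Q c ⟶ P
  nat : ∀ {a b : Ix R} (g : a ⟶ b), tr g ≫ q b = q a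
  sq : ∀ c, IsPullback (q c) (π c) p ((yon S).map c.obj.hom)

namespace CartFam

variable {U : Over S} {R : Sieve U} {P : Sp S} {p : P ⟶ (yon S).obj U} (𝒬 : CartFam R P p)

lemma cov (hR : R ∈ AlgSp.J S U) {V : Over S} (z : (yon S).obj V ⟶ P) :
    R.pullback ((yon S).preimage (z ≫ p)) ∈ AlgSp.J S V :=
  (AlgSp.J S).pullback_stable _ hR

/-- the member through which a restricted point factors -/
noncomputable def member {V : Over S} (z : (yon S).obj V ⟶ P) {Z : Over S} (l : Z ⟶ V)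
    (hl : R.pullback ((yon S).preimage (z ≫ p)) l) : Ix R :=
  ⟨Over.mk (l ≫ (yon S).preimage (z ≫ p)), hl⟩

/-- the lift of a restricted point to its member -/
noncomputable def pieceLift {V : Over S} (z : (yon S).obj V ⟶ P) {Z : Over S} (l : Z ⟶ V)
    (hl : R.pullback ((yon S).preimage (z ≫ p)) l) : (yon S).obj Z ⟶ 𝒬.Q (member z l hl) :=
  (𝒬.sq (member z l hl)).lift ((yon S).map l ≫ z) (𝟙 _) (by
    rw [Category.assoc, Category.id_comp]
    exact (congrArg (fun q => (yon S).map l ≫ q) ((yon S).map_preimage (z ≫ p)).symm).trans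
      ((yon S).map_comp _ _).symm)

lemma pieceLift_q {V : Over S} (z : (yon S).obj V ⟶ P) {Z : Over S} (l : Z ⟶ V)
    (hl : R.pullback ((yon S).preimage (z ≫ p)) l) :
    𝒬.pieceLift z l hl ≫ 𝒬.q _ = (yon S).map l ≫ z :=
  (𝒬.sq (member z l hl)).lift_fst _ _ _

lemma pieceLift_π {V : Over S} (z : (yon S).obj V ⟶ P) {Z : Over S} (l : Z ⟶ V)
    (hl : R.pullback ((yon S).preimage (z ≫ p)) l) :
    𝒬.pieceLift z l hl ≫ 𝒬.π _ = 𝟙 _ :=
  (𝒬.sq (member z l hl)).lift_snd _ _ _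

theorem desc_ext (hR : R ∈ AlgSp.J S U) {Y : Sp S} {h h' : P ⟶ Y}
    (e : ∀ c, 𝒬.q c ≫ h = 𝒬.q c ≫ h') : h = h' :=
  hom_ext_yon fun V z => hom_ext_sieve (cov hR z) fun l hl => by
    rw [← Category.assoc, ← 𝒬.pieceLift_q z l hl, Category.assoc, e, ← Category.assoc,
      𝒬.pieceLift_q z l hl, Category.assoc]

theorem exists_desc (hR : R ∈ AlgSp.J S U) {Y : Sp S} (ψ : ∀ c, 𝒬.Q c ⟶ Y)
    (hψ : ∀ {a b : Ix R} (g : a ⟶ b), 𝒬.tr g ≫ ψ b = ψ a) : ∃ h : P ⟶ Y, ∀ c, 𝒬.q c ≫ h = ψ c := by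
  -- any two lifts into members give the same value
  have key : ∀ {W : Over S} (c c' : Ix R) (x : (yon S).obj W ⟶ 𝒬.Q c) (x' : (yon S).obj W ⟶ 𝒬.Q c'),
      x ≫ 𝒬.q c = x' ≫ 𝒬.q c' → x ≫ ψ c = x' ≫ ψ c' := by
    intro W c c' x x' hxx
    let k := (yon S).preimage (x ≫ 𝒬.π c)
    let k' := (yon S).preimage (x' ≫ 𝒬.π c')
    have hk : k ≫ c.obj.hom = k' ≫ c'.obj.hom := (yon S).map_injective (by
      simp only [k, k', Functor.map_comp, Functor.map_preimage, Category.assoc, ← (𝒬.sq _).w]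
      rw [← Category.assoc, hxx, Category.assoc])
    let cW : Ix R := ⟨Over.mk (k ≫ c.obj.hom), R.downward_closed c.property k⟩
    let n : cW ⟶ c := ObjectProperty.homMk (Over.homMk k rfl)
    let n' : cW ⟶ c' := ObjectProperty.homMk (Over.homMk k' hk.symm)
    let y : (yon S).obj W ⟶ 𝒬.Q cW := (𝒬.sq cW).lift (x ≫ 𝒬.q c) (𝟙 _) (by
      rw [Category.assoc, (𝒬.sq c).w, Category.id_comp]
      exact (Category.assoc _ _ _).symm.trans ((congrArg (fun q => q ≫ (yon S).map c.obj.hom)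
        ((yon S).map_preimage (x ≫ 𝒬.π c)).symm).trans ((yon S).map_comp _ _).symm))
    have y1 : y ≫ 𝒬.q cW = x ≫ 𝒬.q c := (𝒬.sq cW).lift_fst _ _ _
    have y2 : y ≫ 𝒬.π cW = 𝟙 _ := (𝒬.sq cW).lift_snd _ _ _
    have e : ∀ (d : Ix R) (x₁ : (yon S).obj W ⟶ 𝒬.Q d) (m : cW ⟶ d),
        x₁ ≫ 𝒬.q d = x ≫ 𝒬.q c → x₁ ≫ 𝒬.π d = (yon S).map m.hom.left → y ≫ 𝒬.tr m = x₁ := by
      intro d x₁ m h1 h2
      apply (𝒬.sq d).hom_ext
      · rw [Category.assoc, 𝒬.nat, y1, h1]
      · rw [Category.assoc, 𝒬.tr_π, ← Category.assoc, y2, h2]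
        exact Category.id_comp _
    rw [← e c x n rfl ((yon S).map_preimage _).symm, ← e c' x' n' hxx.symm ((yon S).map_preimage _).symm,
      Category.assoc, hψ, Category.assoc, hψ]
  have ex : ∀ {V : Over S} (z : (yon S).obj V ⟶ P),
      ∃! y : (yon S).obj V ⟶ Y, ∀ {Z : Over S} (l : Z ⟶ V)
        (hl : R.pullback ((yon S).preimage (z ≫ p)) l),
        (yon S).map l ≫ y = 𝒬.pieceLift z l hl ≫ ψ _ := fun {V} z =>
    existsUnique_glue (cov hR z) (fun l hl => 𝒬.pieceLift z l hl ≫ ψ _) fun m l hl => by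
      rw [← Category.assoc]
      refine key _ _ _ _ ?_
      rw [Category.assoc, 𝒬.pieceLift_q, 𝒬.pieceLift_q, Functor.map_comp, Category.assoc]
  choose y hy hyu using @ex
  have ynat : ∀ {V W : Over S} (f : W ⟶ V) (z : (yon S).obj V ⟶ P),
      y ((yon S).map f ≫ z) = (yon S).map f ≫ y z := fun {V W} f z => by
    refine (hyu _ _ fun {Z} l hl => ?_).symm
    have hl' : R.pullback ((yon S).preimage (z ≫ p)) (l ≫ f) := by
      have e : (yon S).preimage (((yon S).map f ≫ z) ≫ p) = f ≫ (yon S).preimage (z ≫ p) :=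
        (yon S).map_injective (by
          rw [Functor.map_preimage, Functor.map_comp, Functor.map_preimage, Category.assoc])
      have hl0 : R (l ≫ (yon S).preimage (((yon S).map f ≫ z) ≫ p)) := hl
      show R ((l ≫ f) ≫ _)
      rwa [Category.assoc, ← e]
    rw [← Functor.map_comp_assoc, hy z (l ≫ f) hl']
    refine key _ _ _ _ ?_
    rw [𝒬.pieceLift_q, 𝒬.pieceLift_q, Functor.map_comp, Category.assoc]
  refine ⟨homOfYon (fun V z => y z) ynat, fun c => hom_ext_yon fun V x => ?_⟩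
  rw [← Category.assoc, comp_homOfYon]
  refine hom_ext_sieve (cov (p := p) hR (x ≫ 𝒬.q c)) fun l hl => ?_
  rw [hy _ l hl, ← Category.assoc]
  refine key _ _ _ _ ?_
  rw [𝒬.pieceLift_q, Category.assoc]

/-- pullback of a cartesian family along a morphism of total spaces -/
noncomputable def restrict {P' : Sp S} (f : P' ⟶ P) : CartFam R P' (f ≫ p) where
  Q c := pullback f (𝒬.q c)
  π c := pullback.snd f (𝒬.q c) ≫ 𝒬.π c
  tr {a b} g := pullback.lift (pullback.fst f (𝒬.q a)) (pullback.snd f (𝒬.q a) ≫ 𝒬.tr g)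
    (by rw [Category.assoc, 𝒬.nat, pullback.condition])
  tr_π g := by rw [pullback.lift_snd_assoc, Category.assoc, Category.assoc, 𝒬.tr_π]
  q c := pullback.fst f (𝒬.q c)
  nat g := pullback.lift_fst _ _ _
  sq c := (IsPullback.of_hasPullback f (𝒬.q c)).paste_vert (𝒬.sq c)

/-- an inverse glues from inverses on the members -/
theorem isIso_of_members (hR : R ∈ AlgSp.J S U) {P' : Sp S} {p' : P' ⟶ (yon S).obj U}
    (𝒬' : CartFam R P' p') (f : P ⟶ P') (e : ∀ c, 𝒬.Q c ≅ 𝒬'.Q c)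
    (he : ∀ c, (e c).hom ≫ 𝒬'.q c = 𝒬.q c ≫ f)
    (he' : ∀ {a b : Ix R} (g : a ⟶ b), 𝒬.tr g ≫ (e b).hom = (e a).hom ≫ 𝒬'.tr g) : IsIso f := by
  obtain ⟨h, hh⟩ := 𝒬'.exists_desc hR (fun c => (e c).inv ≫ 𝒬.q c) (fun {a b} g => by
    rw [← cancel_epi (e a).hom, Iso.hom_inv_id_assoc, ← Category.assoc, ← he', Category.assoc,
      Iso.hom_inv_id_assoc, 𝒬.nat])
  refine ⟨h, 𝒬.desc_ext hR fun c => ?_, 𝒬'.desc_ext hR fun c => ?_⟩
  · rw [← Category.assoc, ← he c, Category.assoc, hh, Iso.hom_inv_id_assoc, Category.comp_id]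
  · rw [← Category.assoc, hh, Category.assoc, ← he c, Iso.inv_hom_id_assoc, Category.comp_id]

end CartFam

end Groth.Agent.SpQuot16
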