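import Groth.Agent.Lib.SpQuot16.Basic
import Groth.Agent.Lib.SpQuot16.Desc
import Groth.Agent.Lib.Quot16.Cocone

/-! Sheaf torsors form a stack. -/

universe u

open CategoryTheory CategoryTheory.Limits MonoidalCategory CartesianMonoidalCategory MonObj GrpObj
  AlgebraicGeometry

set_option linter.style.haveILetI false
set_option linter.unusedSectionVars false
set_option linter.unusedSimpArgs false
set_option backward.isDefEq.respectTransparency false
set_option backward.isDefEq.respectTransparency.types false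

namespace Groth.Agent.SpQuot16

open AlgSt
open Groth.Agent.Quot16 (Cocone GluesHom isStackFor_of)
open Groth.Agent.AlgSpace (hom_ext_yon)

variable {S : Scheme.{u}} {B : AlgSp.Sp S} {G : Over B} [GrpObj G] {K : Precoverage Scheme.{u}}
  {X : Over B} {aX : AlgSp.GAction G X}

/-- the structure morphism of an object lying over `V` -/
noncomputable def πOn (A : SpQuotObj K G aX) {V : Over S} (hA : A.base = V) :
    A.P.left ⟶ (AlgSp.yon S).obj V :=
  A.π.left ≫ (AlgSp.yon S).map (eqToHom hA)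

/-- the section of `B` of an object lying over `V` -/
noncomputable def bOn (A : SpQuotObj K G aX) {V : Over S} (hA : A.base = V) :
    (AlgSp.yon S).obj V ⟶ B :=
  (AlgSp.yon S).map (eqToHom hA.symm) ≫ A.b

lemma πOn_bOn (A : SpQuotObj K G aX) {V : Over S} (hA : A.base = V) :
    πOn A hA ≫ bOn A hA = A.P.hom := by
  subst hA
  simp only [πOn, bOn, eqToHom_refl, CategoryTheory.Functor.map_id, Category.comp_id, Category.id_comp]
  exact Over.w A.π

lemma sq_of_lift {A A' : SpQuotObj K G aX} {V W : Over S} (hA : A.base = V) (hB : A'.base = W)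
    (f : V ⟶ W) (φ : A ⟶ A') [h : (SpQuotSt K G aX).p.IsHomLift f φ] :
    IsPullback φ.top.left (πOn A hA) (πOn A' hB) ((AlgSp.yon S).map f) ∧
      (AlgSp.yon S).map f ≫ bOn A' hB = bOn A hA := by
  subst hA hB
  have e := base_eq_of_lift_self f φ
  subst e
  constructor
  · simp only [πOn, eqToHom_refl, CategoryTheory.Functor.map_id, Category.comp_id]
    exact φ.cart.map (Over.forget B)
  · simp only [bOn, eqToHom_refl, CategoryTheory.Functor.map_id, Category.id_comp]
    exact SpQuotObj.hom_wb φ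

lemma πOn_invariant (A : SpQuotObj K G aX) {V : Over S} (hA : A.base = V) :
    A.act.act.left ≫ πOn A hA = (snd G A.P).left ≫ πOn A hA := by
  simp only [πOn, ← Category.assoc, act_π_left]

lemma isPullback_act (A : SpQuotObj K G aX) {V : Over S} (hA : A.base = V) :
    IsPullback A.act.act.left (snd G A.P).left (πOn A hA) (πOn A hA) := by
  subst hA
  simp only [πOn, eqToHom_refl, CategoryTheory.Functor.map_id, Category.comp_id]
  exact A.cart.map (Over.forget B)

lemma hasSecLoc_πOn (A : SpQuotObj K G aX) {V : Over S} (hA : A.base = V) :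
    HasSecLoc K (πOn A hA) := by
  subst hA
  have e : πOn A rfl = A.π.left := by
    simp only [πOn, eqToHom_refl, CategoryTheory.Functor.map_id]
    exact Category.comp_id _
  rw [e]; exact A.loc

lemma top_map {U : Over S} {R : Sieve U} (t : Stk.sieveCat R ⥤ᵇ SpQuotSt K G aX) {a b c : Ix R}
    (m : a ⟶ b) (n : b ⟶ c) : (t.map (m ≫ n)).top = (t.map m).top ≫ (t.map n).top :=
  congrArg SpQuotObj.Hom.top (t.toFunctor.map_comp m n)

variable {U : Over S} {R : Sieve U} (t : Stk.sieveCat R ⥤ᵇ SpQuotSt K G aX)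

lemma sq_map {a b : Ix R} (g : a ⟶ b) :
    IsPullback (t.map g).top.left (πOn (t.obj a) (t.w_obj a)) (πOn (t.obj b) (t.w_obj b))
        ((AlgSp.yon S).map g.hom.left) ∧
      (AlgSp.yon S).map g.hom.left ≫ bOn (t.obj b) (t.w_obj b) = bOn (t.obj a) (t.w_obj a) := by
  haveI : (Stk.sieveCat R).p.IsHomLift g.hom.left g := IsHomLift.map (Stk.sieveCat R).p g
  haveI := BasedFunctor.preserves_isHomLift t g.hom.left g
  exact sq_of_lift (t.w_obj a) (t.w_obj b) g.hom.left (t.map g)

/-- the sheaf descent datum of a descent datum of torsors -/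
noncomputable def dat : SheafDat R where
  Q c := (t.obj c).P.left
  π c := πOn (t.obj c) (t.w_obj c)
  tr g := (t.map g).top.left
  tr_comp g h := congrArg (fun q => q.left) (top_map t g h)
  sq g := (sq_map t g).1

/-- the cartesian family of a glued sheaf -/
noncomputable def datFam {P : AlgSp.Sp S} {p : P ⟶ (AlgSp.yon S).obj U} (q : ∀ c, (dat t).Q c ⟶ P)
    (nat : ∀ {a b : Ix R} (g : a ⟶ b), (dat t).tr g ≫ q b = q a)
    (sq : ∀ c, IsPullback (q c) ((dat t).π c) p ((AlgSp.yon S).map c.obj.hom)) : CartFam R P p where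
  Q c := (t.obj c).P.left
  π c := πOn (t.obj c) (t.w_obj c)
  tr g := (t.map g).top.left
  tr_π g := (sq_map t g).1.w
  q := q
  nat := nat
  sq := sq

/-- the cartesian family of a cocone -/
noncomputable def coconeFam (s : Cocone t) : CartFam R s.pt.P.left (πOn s.pt s.over) where
  Q c := (t.obj c).P.left
  π c := πOn (t.obj c) (t.w_obj c)
  tr g := (t.map g).top.left
  tr_π g := (sq_map t g).1.w
  q c := (s.θ c).top.left
  nat g := congrArg (fun q => q.top.left) (s.nat g)
  sq c := (@sq_of_lift _ _ _ _ _ _ _ _ _ _ _ (t.w_obj c) s.over c.obj.hom (s.θ c) (s.lift c)).1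

/-- tensoring a cartesian family over `B` with a sheaf over `B` -/
noncomputable def tensorFam (W : Over B) {P : Over B} {p : P.left ⟶ (AlgSp.yon S).obj U}
    (Q : Ix R → Over B) (π : ∀ c, (Q c).left ⟶ (AlgSp.yon S).obj c.obj.left)
    (tr : ∀ {a b : Ix R}, (a ⟶ b) → (Q a ⟶ Q b))
    (tr_π : ∀ {a b : Ix R} (g : a ⟶ b), (tr g).left ≫ π b = π a ≫ (AlgSp.yon S).map g.hom.left)
    (q : ∀ c, Q c ⟶ P) (nat : ∀ {a b : Ix R} (g : a ⟶ b), tr g ≫ q b = q a)
    (sq : ∀ c, IsPullback (q c).left (π c) p ((AlgSp.yon S).map c.obj.hom)) :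
    CartFam R (W ⊗ P).left ((snd W P).left ≫ p) where
  Q c := (W ⊗ Q c).left
  π c := (snd W (Q c)).left ≫ π c
  tr g := (W ◁ tr g).left
  tr_π g := by rw [← Category.assoc, ← Over.comp_left, whiskerLeft_snd, Over.comp_left, Category.assoc,
    Category.assoc, tr_π]
  q c := (W ◁ q c).left
  nat g := by rw [← Over.comp_left, ← MonoidalCategory.whiskerLeft_comp, nat]
  sq c := (((isPullback_whiskerLeft' (G := W) (q c)).map (Over.forget B))).paste_vert (sq c)

theorem gluesHom (hR : R ∈ AlgSp.J S U) : GluesHom R (SpQuotSt K G aX) := by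
  intro t s s'
  have mk : ∀ s s' : Cocone t, ∃ χ : s.pt.P.left ⟶ s'.pt.P.left,
      ∀ c, (s.θ c).top.left ≫ χ = (s'.θ c).top.left :=
    fun s s' => (coconeFam t s).exists_desc hR (fun c => (s'.θ c).top.left)
      (fun g => congrArg (fun q => q.top.left) (s'.nat g))
  obtain ⟨χ, hχ⟩ := mk s s'
  obtain ⟨χ', hχ'⟩ := mk s' s
  have i1 : χ ≫ χ' = 𝟙 _ := (coconeFam t s).desc_ext hR fun c => by
    show (s.θ c).top.left ≫ χ ≫ χ' = (s.θ c).top.left ≫ 𝟙 _
    rw [reassoc_of% hχ, hχ', Category.comp_id]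
  have i2 : χ' ≫ χ = 𝟙 _ := (coconeFam t s').desc_ext hR fun c => by
    show (s'.θ c).top.left ≫ χ' ≫ χ = (s'.θ c).top.left ≫ 𝟙 _
    rw [reassoc_of% hχ', hχ, Category.comp_id]
  have hπ : χ ≫ πOn s'.pt s'.over = πOn s.pt s.over :=
    (coconeFam t s).desc_ext hR fun c => by
      show (s.θ c).top.left ≫ χ ≫ πOn s'.pt s'.over = (s.θ c).top.left ≫ πOn s.pt s.over
      rw [reassoc_of% hχ]
      exact ((coconeFam t s').sq c).w.trans ((coconeFam t s).sq c).w.symm
  have hb : s.pt.base = s'.pt.base := s.over.trans s'.over.symm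
  have hwb : (AlgSp.yon S).map (eqToHom hb) ≫ s'.pt.b = s.pt.b := by
    have e : bOn s'.pt s'.over = bOn s.pt s.over := hom_ext_sieve hR fun l hl => by
      let c : Ix R := ⟨Over.mk l, hl⟩
      exact (@sq_of_lift _ _ _ _ _ _ _ _ _ _ _ (t.w_obj c) s'.over c.obj.hom (s'.θ c) (s'.lift c)).2.trans
        (@sq_of_lift _ _ _ _ _ _ _ _ _ _ _ (t.w_obj c) s.over c.obj.hom (s.θ c) (s.lift c)).2.symm
    have e2 := congrArg (fun q => (AlgSp.yon S).map (eqToHom s.over) ≫ q) e
    simpa [bOn, ← Functor.map_comp_assoc] using e2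
  let χb : s.pt.P ⟶ s'.pt.P := Over.homMk χ (by
    rw [← πOn_bOn s'.pt s'.over, ← Category.assoc, hπ, ← πOn_bOn s.pt s.over]
    congr 1
    simp only [bOn]
    rw [← hwb, ← Functor.map_comp_assoc]
    simp)
  haveI : IsIso χ := ⟨χ', i1, i2⟩
  haveI : IsIso χb := by
    haveI : IsIso ((Over.forget B).map χb) := ‹IsIso χ›
    exact isIso_of_reflects_iso χb (Over.forget B)
  haveI : IsIso (bHom (eqToHom hb) hwb) := by
    haveI : IsIso ((Over.forget B).map (bHom (eqToHom hb) hwb)) := by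
      show IsIso ((AlgSp.yon S).map (eqToHom hb))
      infer_instance
    exact isIso_of_reflects_iso _ (Over.forget B)
  let Χ : s.pt ⟶ s'.pt :=
    { base := eqToHom hb
      wb := hwb
      top := χb
      eqv := Over.OverMorphism.ext ((tensorFam G (fun c => (t.obj c).P) _ (fun g => (t.map g).top)
          (fun g => (sq_map t g).1.w) (fun c => (s.θ c).top)
          (fun g => congrArg (fun q => q.top) (s.nat g)) (coconeFam t s).sq).desc_ext hR fun c => by
        show ((G ◁ (s.θ c).top) ≫ s.pt.act.act ≫ χb).left =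
          ((G ◁ (s.θ c).top) ≫ (G ◁ χb) ≫ s'.pt.act.act).left
        have h1 : (s.θ c).top ≫ χb = (s'.θ c).top := Over.OverMorphism.ext (hχ c)
        rw [← Category.assoc, ← (s.θ c).eqv, Category.assoc, h1, ← Category.assoc,
          ← MonoidalCategory.whiskerLeft_comp, h1]
        exact congrArg (fun q => q.left) (s'.θ c).eqv)
      cart := IsPullback.of_horiz_isIso ⟨Over.OverMorphism.ext (by
        have e2 := congrArg (fun q => q ≫ (AlgSp.yon S).map (eqToHom s'.over.symm)) hπ
        show χ ≫ s'.pt.π.left = s.pt.π.left ≫ (AlgSp.yon S).map (eqToHom hb)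
        simp [πOn, ← Functor.map_comp] at e2
        exact e2)⟩
      wφ := Over.OverMorphism.ext ((coconeFam t s).desc_ext hR fun c => by
        show (s.θ c).top.left ≫ χ ≫ s'.pt.φ.left = (s.θ c).top.left ≫ s.pt.φ.left
        rw [reassoc_of% hχ, ← Over.comp_left, ← Over.comp_left, (s'.θ c).wφ, (s.θ c).wφ]) }
  refine ⟨Χ, ⟨?_, fun c => ?_⟩, ?_⟩
  · exact IsHomLift.of_fac' (SpQuotSt K G aX).p _ _ s.over s'.over (by show eqToHom hb = _; simp)
  · refine SpQuotObj.hom_ext ?_ (Over.OverMorphism.ext (hχ c))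
    haveI := s.lift c; haveI := s'.lift c
    have e1 := IsHomLift.fac' (SpQuotSt K G aX).p c.obj.hom (s.θ c)
    have e2 := IsHomLift.fac' (SpQuotSt K G aX).p c.obj.hom (s'.θ c)
    show (s.θ c).base ≫ eqToHom hb = (s'.θ c).base
    refine (congrArg (fun q => q ≫ eqToHom hb) e1).trans (Eq.trans ?_ e2.symm)
    simp
  · rintro Ψ ⟨hl, hθ⟩
    refine SpQuotObj.hom_ext ?_ (Over.OverMorphism.ext ((coconeFam t s).desc_ext hR fun c => ?_))
    · exact (IsHomLift.fac' (SpQuotSt K G aX).p (𝟙 U) Ψ).trans (by show _ = eqToHom hb; simp)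
    · show (s.θ c).top.left ≫ Ψ.top.left = (s.θ c).top.left ≫ χ
      rw [hχ]
      exact congrArg (fun q => q.top.left) (hθ c)

theorem hasSecLoc_glued (t : Stk.sieveCat R ⥤ᵇ SpQuotSt Scheme.fppfPrecoverage G aX)
    (hR : R ∈ AlgSp.J S U) {P : AlgSp.Sp S} (p : P ⟶ (AlgSp.yon S).obj U)
    (q : ∀ c, (t.obj c).P.left ⟶ P)
    (sq : ∀ c, q c ≫ p = πOn (t.obj c) (t.w_obj c) ≫ (AlgSp.yon S).map c.obj.hom) :
    HasSecLoc Scheme.fppfPrecoverage p := by
  obtain ⟨𝒰, h𝒰⟩ := (AlgSpace.mem_J_iff R).1 hR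
  let cc : 𝒰.I₀ → Ix R := fun i =>
    ⟨Over.mk (AlgSpace.overArrow (𝒰.f i)), (AlgSpace.overEquiv_arrow R (𝒰.f i)).1 (h𝒰 i)⟩
  have hl : ∀ i, ∃ (L : Type (u + 1)) (Y : L → Scheme.{u}) (g : ∀ l, Y l ⟶ 𝒰.X i),
      Presieve.ofArrows Y g ∈ Scheme.fppfPrecoverage (𝒰.X i) ∧
        ∀ l, ∃ σ : (AlgSp.yon S).obj (Over.mk (g l ≫ (cc i).obj.left.hom)) ⟶ (t.obj (cc i)).P.left,
          σ ≫ πOn (t.obj (cc i)) (t.w_obj (cc i)) = (AlgSp.yon S).map (Over.homMk (g l)) := fun i => by
    obtain ⟨R', hR', hs⟩ := hasSecLoc_πOn (t.obj (cc i)) (t.w_obj (cc i))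
    obtain ⟨L, Y, g, rfl⟩ := R'.exists_eq_ofArrows
    exact ⟨L, Y, g, hR', fun l => hs (g l) ⟨l⟩⟩
  choose L Y g hg hs using hl
  refine ⟨_, Precoverage.comp_mem_coverings 𝒰.f 𝒰.mem₀ g hg, ?_⟩
  rintro _ _ ⟨⟨i, l⟩⟩
  obtain ⟨σ, hσ⟩ := hs i l
  let j : Over.mk ((g i l ≫ 𝒰.f i) ≫ U.hom) ⟶ Over.mk (g i l ≫ (cc i).obj.left.hom) :=
    Over.homMk (𝟙 _) (by
      show 𝟙 _ ≫ g i l ≫ 𝒰.f i ≫ U.hom = (g i l ≫ 𝒰.f i) ≫ U.hom
      rw [Category.id_comp, Category.assoc])
  refine ⟨(AlgSp.yon S).map j ≫ σ ≫ q (cc i), ?_⟩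
  refine (Category.assoc _ _ _).trans ((congrArg (fun x => (AlgSp.yon S).map j ≫ x)
    ((Category.assoc _ _ _).trans ((congrArg (fun x => σ ≫ x) (sq (cc i))).trans
      ((Category.assoc _ _ _).symm.trans (congrArg (fun x => x ≫ (AlgSp.yon S).map (cc i).obj.hom) hσ))))).trans ?_)
  refine ((congrArg (fun x => (AlgSp.yon S).map j ≫ x) ((AlgSp.yon S).map_comp _ _).symm).trans
    ((AlgSp.yon S).map_comp _ _).symm).trans ?_
  exact congrArg (AlgSp.yon S).map (Over.OverMorphism.ext (Category.id_comp _))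

theorem exists_cocone (hR : R ∈ AlgSp.J S U)
    (t : Stk.sieveCat R ⥤ᵇ SpQuotSt Scheme.fppfPrecoverage G aX) : Nonempty (Cocone t) := by
  obtain ⟨P, p, q, nat, sq⟩ := (dat t).exists_glued hR
  have nat' : ∀ {a b : Ix R} (g : a ⟶ b), (t.map g).top.left ≫ q b = q a := nat
  have sq' : ∀ c, IsPullback (q c) (πOn (t.obj c) (t.w_obj c)) p ((AlgSp.yon S).map c.obj.hom) := sq
  -- the section of the base
  obtain ⟨b, hb, -⟩ := existsUnique_glue hR (fun l hl => bOn (t.obj ⟨Over.mk l, hl⟩) (t.w_obj ⟨Over.mk l, hl⟩))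
    (fun {Z Z'} m l hl => by
      let n : (⟨Over.mk (m ≫ l), R.downward_closed hl m⟩ : Ix R) ⟶ ⟨Over.mk l, hl⟩ :=
        ObjectProperty.homMk (Over.homMk m rfl)
      exact (sq_map t n).2)
  have hb' : ∀ c : Ix R, (AlgSp.yon S).map c.obj.hom ≫ b = bOn (t.obj c) (t.w_obj c) := fun c =>
    hb c.obj.hom c.property
  let PB : Over B := Over.mk (p ≫ b)
  let qB : ∀ c, (t.obj c).P ⟶ PB := fun c => Over.homMk (q c) (by
    show q c ≫ p ≫ b = (t.obj c).P.hom
    rw [reassoc_of% (sq' c).w, hb', πOn_bOn])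
  have natB : ∀ {a b : Ix R} (g : a ⟶ b), (t.map g).top ≫ qB b = qB a := fun g =>
    Over.OverMorphism.ext (nat' g)
  let 𝒬 : CartFam R PB.left p := datFam t q nat sq
  let tf : ∀ W : Over B, CartFam R (W ⊗ PB).left ((snd W PB).left ≫ p) := fun W =>
    tensorFam W (fun c => (t.obj c).P) _ (fun g => (t.map g).top) (fun g => (sq_map t g).1.w) qB natB sq'
  obtain ⟨act₀, hact₀⟩ := (tf G).exists_desc hR (fun c => ((t.obj c).act.act ≫ qB c).left)
    (fun {a b} g => by
      show ((G ◁ (t.map g).top) ≫ (t.obj b).act.act ≫ qB b).left = ((t.obj a).act.act ≫ qB a).left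
      rw [← Category.assoc, ← (t.map g).eqv, Category.assoc, natB])
  have hw₀ : act₀ ≫ p = (snd G PB).left ≫ p := (tf G).desc_ext hR fun c => by
    show (tf G).q c ≫ act₀ ≫ p = (G ◁ qB c).left ≫ (snd G PB).left ≫ p
    rw [reassoc_of% (hact₀ c), ← Over.comp_left_assoc, whiskerLeft_snd, Over.comp_left,
      Over.comp_left, Category.assoc, Category.assoc]
    show (t.obj c).act.act.left ≫ q c ≫ p = (snd G _).left ≫ q c ≫ p
    rw [(sq' c).w, reassoc_of% (πOn_invariant (t.obj c) (t.w_obj c))]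
  let act : G ⊗ PB ⟶ PB := Over.homMk act₀ (by
    show act₀ ≫ p ≫ b = _
    rw [reassoc_of% hw₀]
    exact Over.w (snd G PB))
  have hact : ∀ c, (G ◁ qB c) ≫ act = (t.obj c).act.act ≫ qB c := fun c =>
    Over.OverMorphism.ext (hact₀ c)
  obtain ⟨φ₀, hφ₀⟩ := 𝒬.exists_desc hR (fun c => (t.obj c).φ.left)
    (fun g => congrArg (fun q => q.left) (t.map g).wφ)
  have hφX : φ₀ ≫ X.hom = p ≫ b := 𝒬.desc_ext hR fun c => by
    show q c ≫ φ₀ ≫ X.hom = q c ≫ p ≫ b
    rw [← Category.assoc, show q c ≫ φ₀ = (t.obj c).φ.left from hφ₀ c, Over.w (t.obj c).φ]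
    exact (Over.w (qB c)).symm
  let φ : PB ⟶ X := Over.homMk φ₀ hφX
  have hφ : ∀ c, qB c ≫ φ = (t.obj c).φ := fun c => Over.OverMorphism.ext (hφ₀ c)
  let a : AlgSp.GAction G PB :=
    { act := act
      one_act := Over.OverMorphism.ext ((tf (𝟙_ (Over B))).desc_ext hR fun c => by
        show ((𝟙_ (Over B) ◁ qB c) ≫ (η[G] ▷ PB) ≫ act).left = ((𝟙_ (Over B) ◁ qB c) ≫ (λ_ PB).hom).left
        rw [← Category.assoc, whisker_exchange, Category.assoc, hact, ← Category.assoc,
          (t.obj c).act.one_act, leftUnitor_naturality])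
      mul_act := Over.OverMorphism.ext ((tf (G ⊗ G)).desc_ext hR fun c => by
        show (((G ⊗ G) ◁ qB c) ≫ (μ[G] ▷ PB) ≫ act).left =
          (((G ⊗ G) ◁ qB c) ≫ (α_ G G PB).hom ≫ (G ◁ act) ≫ act).left
        congr 1
        rw [← Category.assoc, whisker_exchange, Category.assoc, hact, ← Category.assoc,
          (t.obj c).act.mul_act, tensor_whiskerLeft]
        simp only [Category.assoc, Iso.inv_hom_id_assoc]
        rw [← MonoidalCategory.whiskerLeft_comp_assoc, hact, MonoidalCategory.whiskerLeft_comp,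
          Category.assoc, hact]) }
  let F : (G ⊗ PB).left ⟶ pullback p p := pullback.lift act₀ (snd G PB).left hw₀
  have hF : IsIso F := by
    have sqF : ∀ c, IsPullback ((tf G).q c ≫ F) (t.obj c).act.act.left (pullback.fst p p) (q c) := fun c => by
      refine IsPullback.of_right (h₁₂ := pullback.snd p p) (h₂₂ := p) ?_ ?_
        (IsPullback.of_hasPullback p p).flip
      · rw [Category.assoc, pullback.lift_snd, (sq' c).w]
        have e : (tf G).q c ≫ (snd G PB).left = (snd G (t.obj c).P).left ≫ q c :=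
          congrArg (fun q => q.left) (whiskerLeft_snd G (qB c))
        rw [e]
        exact (isPullback_act (t.obj c) (t.w_obj c)).flip.paste_horiz (sq' c)
      · rw [Category.assoc, pullback.lift_fst, hact₀]
        rfl
    refine (tf G).isIso_of_members hR (𝒬.restrict (pullback.fst p p)) F
      (fun c => (sqF c).isoPullback) (fun c => ?_) (fun {a b} g => ?_)
    · exact (sqF c).isoPullback_hom_fst
    · show (G ◁ (t.map g).top).left ≫ (sqF b).isoPullback.hom = (sqF a).isoPullback.hom ≫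
        pullback.lift (pullback.fst (pullback.fst p p) (q a))
          (pullback.snd (pullback.fst p p) (q a) ≫ (t.map g).top.left) _
      apply pullback.hom_ext
      · rw [Category.assoc, IsPullback.isoPullback_hom_fst, Category.assoc, pullback.lift_fst,
          IsPullback.isoPullback_hom_fst, ← Category.assoc]
        exact congrArg (fun q => q ≫ F) ((tf G).nat g)
      · rw [Category.assoc, IsPullback.isoPullback_hom_snd, Category.assoc, pullback.lift_snd,
          IsPullback.isoPullback_hom_snd_assoc]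
        exact congrArg (fun q => q.left) (t.map g).eqv.symm
  let π : PB ⟶ Over.mk b := Over.homMk p rfl
  let A : SpQuotObj Scheme.fppfPrecoverage G aX :=
    { base := U
      b := b
      P := PB
      act := a
      π := π
      cart := by
        haveI := hF
        have h0 : IsPullback act₀ (snd G PB).left p p :=
          IsPullback.of_iso_pullback ⟨hw₀⟩ (asIso F) (pullback.lift_fst _ _ _) (pullback.lift_snd _ _ _)
        exact IsPullback.of_map (Over.forget B) (Over.OverMorphism.ext hw₀) h0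
      loc := hasSecLoc_glued t hR p q (fun c => (sq' c).w)
      φ := φ
      eqv := Over.OverMorphism.ext ((tf G).desc_ext hR fun c => by
        show ((G ◁ qB c) ≫ act ≫ φ).left = ((G ◁ qB c) ≫ (G ◁ φ) ≫ aX.act).left
        rw [reassoc_of% (hact c), hφ, ← MonoidalCategory.whiskerLeft_comp_assoc, hφ, (t.obj c).eqv]) }
  let θ : ∀ c, t.obj c ⟶ A := fun c =>
    { base := eqToHom (t.w_obj c) ≫ c.obj.hom
      wb := by
        show (AlgSp.yon S).map _ ≫ b = _
        rw [Functor.map_comp, Category.assoc, hb', bOn, ← Functor.map_comp_assoc]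
        simp
      top := qB c
      eqv := (hact c).symm
      cart := by
        refine IsPullback.of_map (Over.forget B) (Over.OverMorphism.ext ?_) ?_
        · show q c ≫ p = (t.obj c).π.left ≫ (AlgSp.yon S).map (eqToHom (t.w_obj c) ≫ c.obj.hom)
          rw [(sq' c).w, Functor.map_comp, πOn, Category.assoc]
        · refine (sq' c).of_iso (Iso.refl _) (Iso.refl _)
            ((AlgSp.yon S).mapIso (eqToIso (t.w_obj c).symm)) (Iso.refl _) ?_ ?_ ?_ ?_
          · exact (Category.comp_id _).trans (Category.id_comp _).symm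
          · show πOn (t.obj c) (t.w_obj c) ≫ (AlgSp.yon S).map (eqToHom (t.w_obj c).symm) = 𝟙 _ ≫ _
            rw [πOn, Category.assoc, ← Functor.map_comp, Category.id_comp]
            simp
          · exact (Category.comp_id _).trans (Category.id_comp _).symm
          · show (AlgSp.yon S).map c.obj.hom ≫ 𝟙 _ = (AlgSp.yon S).map (eqToHom (t.w_obj c).symm) ≫
              (AlgSp.yon S).map (eqToHom (t.w_obj c) ≫ c.obj.hom)
            rw [Category.comp_id, ← Functor.map_comp]
            simp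
      wφ := hφ c }
  have hl : ∀ c, (SpQuotSt Scheme.fppfPrecoverage G aX).p.IsHomLift c.obj.hom (θ c) := fun c =>
    IsHomLift.of_fac' (SpQuotSt Scheme.fppfPrecoverage G aX).p _ _ (t.w_obj c) rfl (by
      show eqToHom (t.w_obj c) ≫ c.obj.hom = _
      simp)
  refine ⟨⟨A, rfl, θ, hl, fun {a b} g => SpQuotObj.hom_ext ?_ (natB g)⟩⟩
  haveI := hl a; haveI := hl b
  haveI : (Stk.sieveCat R).p.IsHomLift g.hom.left g := IsHomLift.map (Stk.sieveCat R).p g
  haveI := BasedFunctor.preserves_isHomLift t g.hom.left g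
  haveI : (SpQuotSt Scheme.fppfPrecoverage G aX).p.IsHomLift a.obj.hom (t.map g ≫ θ b) := by
    rw [← Over.w g.hom]
    exact inferInstanceAs ((SpQuotSt Scheme.fppfPrecoverage G aX).p.IsHomLift
      (g.hom.left ≫ b.obj.hom) (t.map g ≫ θ b))
  exact base_eq_of_lift a.obj.hom _ _

theorem isStack (G : Over B) [GrpObj G] {X : Over B} (aX : AlgSp.GAction G X) :
    Stk.IsStack (AlgSp.J S) (SpQuotSt Scheme.fppfPrecoverage G aX) :=
  ⟨isFibGrpd, fun _ R hR => isStackFor_of isFibGrpd (gluesHom hR) (exists_cocone hR)⟩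

end Groth.Agent.SpQuot16
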