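import Groth.Agent.Lib.SpQuot16.Torsor
import Groth.Agent.Lib.StAlg.Rep
import Groth.Agent.Lib.FC16.Descent

/-! The 2-fibre products of `X ⟶ [X/G]` with test schemes are the sheaf torsors. -/

universe u

open CategoryTheory CategoryTheory.Limits MonoidalCategory CartesianMonoidalCategory MonObj GrpObj
  AlgebraicGeometry

set_option linter.style.haveILetI false
set_option linter.unusedSectionVars false
set_option linter.unusedSimpArgs false
set_option backward.isDefEq.respectTransparency false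
set_option backward.isDefEq.respectTransparency.types false
set_option maxHeartbeats 1000000

namespace Groth.Agent.SpQuot16

open AlgSt
open FC16 hiding overMap
open Groth.Agent.AlgSpace (sect)

variable {S : Scheme.{u}} {B : AlgSp.Sp S} {G : Over B} [GrpObj G] {K : Precoverage Scheme.{u}}
  {X : Over B} {aX : AlgSp.GAction G X}

lemma secYon_ofSpMap {Y Z : Over B} (φ : Y ⟶ Z) (a : (ofSp Y.left).obj) :
    secYon ((ofSpMap φ.left).obj a) = secYon a ≫ φ.left := by
  apply (sect (T := a.base) (F := Z.left)).injective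
  rw [sect_comp]
  show sect (sect.symm _) = φ.left.hom.app _ (sect (sect.symm a.sec))
  rw [Equiv.apply_symm_apply, Equiv.apply_symm_apply]
  rfl

/-- the first leg of the chart -/
noncomputable abbrev leg₁ (A : SpQuotObj K G aX) : ofSp A.P.left ⥤ᵇ FibCat.overCat A.base :=
  BasedFunctor.comp (ofSpMap A.π.left) (toOverCat A.base)

lemma leg₁_hom (A : SpQuotObj K G aX) (a : (ofSp A.P.left).obj) :
    (AlgSp.yon S).map ((leg₁ A).obj a).hom = secYon a ≫ A.π.left := by
  apply (sect (T := a.base) (F := (AlgSp.yon S).obj A.base)).injective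
  rw [sect_comp]
  show sect ((AlgSp.yon S).map _) = A.π.left.hom.app _ (sect (sect.symm a.sec))
  rw [Equiv.apply_symm_apply]
  apply ULift.ext
  exact Category.id_comp ((leg₁ A).obj a).hom

lemma hom_ext_lift {A A' C : SpQuotObj K G aX} {φ φ' : A ⟶ A'} (h : A' ⟶ C) (hb : φ.base = φ'.base)
    (e : φ ≫ h = φ' ≫ h) : φ = φ' :=
  SpQuotObj.hom_ext hb (h.cart.hom_ext (congrArg SpQuotObj.Hom.top e) (by
    rw [φ.cart.w, φ'.cart.w]
    congr 1
    ext : 1
    simp [hb]))

/-- a point of a torsor, over `B`, above its image in `X` -/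
noncomputable def ptMap (A : SpQuotObj K G aX) (a : (ofSp A.P.left).obj) :
    ptOver ((ofSpMap A.φ.left).obj a) ⟶ A.P :=
  Over.homMk (secYon a) (by
    show secYon a ≫ A.P.hom = secYon ((ofSpMap A.φ.left).obj a) ≫ X.hom
    rw [secYon_ofSpMap, Category.assoc, Over.w A.φ])

lemma ptMap_φ (A : SpQuotObj K G aX) (a : (ofSp A.P.left).obj) :
    ptMap A a ≫ A.φ = secOver ((ofSpMap A.φ.left).obj a) :=
  Over.OverMorphism.ext (secYon_ofSpMap A.φ a).symm

section

variable [K.HasIsos]

/-- the morphism from the trivial torsor of a point -/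
noncomputable abbrev ptHom (A : SpQuotObj K G aX) (a : (ofSp A.P.left).obj) :
    triv K aX ((ofSpMap A.φ.left).obj a) ⟶ A :=
  homOfPt A _ (ptMap A a) (ptMap_φ A a)

lemma ptHom_lift (A : SpQuotObj K G aX) (a : (ofSp A.P.left).obj) :
    (SpQuotSt K G aX).p.IsHomLift ((leg₁ A).obj a).hom (ptHom A a) := by
  have e : (ptHom A a).base = ((leg₁ A).obj a).hom := by
    apply (AlgSp.yon S).map_injective
    rw [leg₁_hom]
    exact (AlgSp.yon S).map_preimage _
  rw [← e]
  exact IsHomLift.map (SpQuotSt K G aX).p (ptHom A a)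

lemma map_ptHom (A : SpQuotObj K G aX) {a b : (ofSp A.P.left).obj} (k : a ⟶ b) :
    (spQuotMap K G aX).map ((ofSpMap A.φ.left).map k) ≫ ptHom A b = ptHom A a := by
  refine hom_ext_sec (Over.OverMorphism.ext ?_)
  rw [sec_precomp, sec_homOfPt, sec_homOfPt]
  exact secYon_comp k

variable [K.IsStableUnderBaseChange]
variable (A : SpQuotObj K G aX) (y : FibCat.overCat A.base ⥤ᵇ SpQuotSt K G aX)
  (hA : y.obj (Over.mk (𝟙 A.base)) = A)

/-- the morphism from a pullback to the object -/
noncomputable def toA (a : Over A.base) : y.obj a ⟶ A := y.map (toTerm a) ≫ eqToHom hA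

lemma toA_lift (a : Over A.base) : (SpQuotSt K G aX).p.IsHomLift a.hom (toA A y hA a) := by
  haveI : (SpQuotSt K G aX).p.IsHomLift a.hom (y.map (toTerm a)) := map_toTerm_lift y a
  haveI : (SpQuotSt K G aX).p.IsHomLift (𝟙 A.base) (eqToHom hA) :=
    IsHomLift.eqToHom_domain_lift_id _ (y.w_obj _)
  have h : (SpQuotSt K G aX).p.IsHomLift (a.hom ≫ 𝟙 A.base) (y.map (toTerm a) ≫ eqToHom hA) := inferInstance
  rw [Category.comp_id] at h
  exact h

lemma toA_nat {a b : Over A.base} (g : a ⟶ b) : y.map g ≫ toA A y hA b = toA A y hA a := by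
  unfold toA
  rw [← Category.assoc, ← y.map_comp]
  congr 2
  exact Over.OverMorphism.ext (Over.w g)

theorem exists_twoMor :
    ∃ i : BasedFunctor.comp (leg₁ A) y ≅ BasedFunctor.comp (ofSpMap A.φ.left) (spQuotMap K G aX),
      ∀ a : (ofSp A.P.left).obj, i.hom.toNatTrans.app a ≫ ptHom A a = toA A y hA ((leg₁ A).obj a) := by
  have gQ : FibCat.IsFibGrpd (SpQuotSt K G aX).p := isFibGrpd
  have key : ∀ a : (ofSp A.P.left).obj,
      ∃ e : y.obj ((leg₁ A).obj a) ≅ (spQuotMap K G aX).obj ((ofSpMap A.φ.left).obj a),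
        (SpQuotSt K G aX).p.IsHomLift (𝟙 a.base) e.hom ∧ e.hom ≫ ptHom A a = toA A y hA ((leg₁ A).obj a) :=
    fun a => @exists_iso_of_lifts _ _ _ (SpQuotSt K G aX).p gQ _ _ ((leg₁ A).obj a).hom _ _ _
      (toA A y hA _) (ptHom A a) (toA_lift A y hA _) (ptHom_lift A a)
  choose e hel hee using key
  refine ⟨BasedNatIso.mkNatIso (NatIso.ofComponents e (fun {a b} k => ?_)) hel, hee⟩
  show y.map ((leg₁ A).map k) ≫ (e b).hom =
    (e a).hom ≫ (spQuotMap K G aX).map ((ofSpMap A.φ.left).map k)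
  refine hom_ext_lift (ptHom A b) ?_ ?_
  · haveI := hel a; haveI := hel b
    haveI : (ofSp A.P.left).p.IsHomLift k.hom k := IsHomLift.map (ofSp A.P.left).p k
    haveI := BasedFunctor.preserves_isHomLift (leg₁ A) k.hom k
    haveI := BasedFunctor.preserves_isHomLift y k.hom ((leg₁ A).map k)
    haveI := BasedFunctor.preserves_isHomLift (ofSpMap A.φ.left) k.hom k
    haveI := BasedFunctor.preserves_isHomLift (spQuotMap K G aX) k.hom ((ofSpMap A.φ.left).map k)
    have l1 : (SpQuotSt K G aX).p.IsHomLift (k.hom ≫ 𝟙 b.base) (y.map ((leg₁ A).map k) ≫ (e b).hom) :=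
      inferInstance
    have l2 : (SpQuotSt K G aX).p.IsHomLift (𝟙 a.base ≫ k.hom)
        ((e a).hom ≫ (spQuotMap K G aX).map ((ofSpMap A.φ.left).map k)) := inferInstance
    rw [Category.comp_id] at l1
    rw [Category.id_comp] at l2
    exact base_eq_of_lift (h := l1) (h' := l2) k.hom _ _
  · rw [Category.assoc, hee, toA_nat]
    exact ((Category.assoc _ _ _).trans ((congrArg (fun q => (e a).hom ≫ q) (map_ptHom A k)).trans (hee a))).symm

variable (i : BasedFunctor.comp (leg₁ A) y ≅ BasedFunctor.comp (ofSpMap A.φ.left) (spQuotMap K G aX))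
  (key : ∀ a : (ofSp A.P.left).obj, i.hom.toNatTrans.app a ≫ ptHom A a = toA A y hA ((leg₁ A).obj a))

lemma chart_faithful :
    (FibCat.fpLift (F := y) (G := spQuotMap K G aX) (leg₁ A) (ofSpMap A.φ.left) i).toFunctor.Faithful :=
  ⟨fun {a b g g'} h => by
    have h1 := congrArg (fun q => q.hom.fst) h
    have h2 : ((leg₁ A).map g).left = ((leg₁ A).map g').left := congrArg CommaMorphism.left h1
    exact Stk.EltObj.hom_ext h2⟩

include key in
lemma chart_full :
    (FibCat.fpLift (F := y) (G := spQuotMap K G aX) (leg₁ A) (ofSpMap A.φ.left) i).toFunctor.Full :=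
  ⟨fun {a b} θ => by
    have hw : y.map θ.hom.fst ≫ i.hom.toNatTrans.app b =
        i.hom.toNatTrans.app a ≫ (spQuotMap K G aX).map θ.hom.snd := fp_w θ
    have h1 : i.hom.toNatTrans.app a ≫ ptHom A a =
        i.hom.toNatTrans.app a ≫ ((spQuotMap K G aX).map θ.hom.snd ≫ ptHom A b) := by
      rw [key]
      refine Eq.trans ?_ (Category.assoc _ _ _)
      refine Eq.trans ?_ (congrArg (fun q => q ≫ ptHom A b) hw)
      refine Eq.trans ?_ (Category.assoc _ _ _).symm
      rw [key]
      exact (toA_nat A y hA θ.hom.fst).symm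
    haveI : IsIso (i.hom.toNatTrans.app a) :=
      inferInstanceAs (IsIso (((BasedNatTrans.forgetful _ _).mapIso i).app a).hom)
    have hc : ptHom A a = (spQuotMap K G aX).map θ.hom.snd ≫ ptHom A b := (cancel_epi _).1 h1
    have s1 : (sec (ptHom A a)).left = secYon a :=
      congrArg (fun q => q.left) (sec_homOfPt A _ (ptMap A a) (ptMap_φ A a))
    have s2 : (sec (ptHom A b)).left = secYon b :=
      congrArg (fun q => q.left) (sec_homOfPt A _ (ptMap A b) (ptMap_φ A b))
    have h2 : secYon a = (AlgSp.yon S).map θ.hom.snd.hom ≫ secYon b :=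
      s1.symm.trans ((congrArg (fun q => (sec q).left) hc).trans
        ((sec_precomp θ.hom.snd (ptHom A b)).trans (congrArg (fun q => _ ≫ q) s2)))
    have h4 : θ.hom.snd.hom = θ.hom.fst.left := by
      haveI := FibCat.fp_isHomLift_snd y (spQuotMap K G aX) θ
      have := IsHomLift.fac' (ofSp X.left).p ((FibCat.fp y (spQuotMap K G aX)).p.map θ) θ.hom.snd
      simp at this
      exact this
    have h3 : (AlgSp.yon S).map θ.hom.snd.hom ≫ secYon b = secYon a := h2.symm
    have h5 : A.P.left.obj.map θ.hom.snd.hom.op b.sec = a.sec := by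
      have h6 := congrArg (sect (T := a.base) (F := A.P.left)) h3
      rw [sect_map] at h6
      show A.P.left.obj.map θ.hom.snd.hom.op b.sec = a.sec
      exact (congrArg (A.P.left.obj.map θ.hom.snd.hom.op) (Equiv.apply_symm_apply _ b.sec)).symm.trans (h6.trans (Equiv.apply_symm_apply _ a.sec))
    refine ⟨⟨θ.hom.snd.hom, h5⟩, ?_⟩
    exact fp_hom_ext (Over.OverMorphism.ext h4) (Stk.EltObj.hom_ext rfl)⟩

include key in
lemma chart_essSurj :
    EssSurjOver (FibCat.fpLift (F := y) (G := spQuotMap K G aX) (leg₁ A) (ofSpMap A.φ.left) i) := by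
  intro z
  obtain ⟨⟨a, b, j⟩, hj⟩ := z
  have hab : b.base = a.left := (FibCat.fpSnd y (spQuotMap K G aX)).w_obj ⟨⟨a, b, j⟩, hj⟩
  obtain ⟨bl, x⟩ := b
  change bl = a.left at hab
  subst hab
  haveI hj' : (SpQuotSt K G aX).p.IsHomLift (𝟙 a.left) j.hom := hj
  haveI hjinv : (SpQuotSt K G aX).p.IsHomLift (𝟙 a.left) j.inv := inferInstance
  haveI := toA_lift A y hA a
  let b₀ : (ofSp X.left).obj := ⟨a.left, x⟩
  let h : triv K aX b₀ ⟶ A := j.inv ≫ toA A y hA a
  have hhb : h.base = a.hom := by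
    have hl : (SpQuotSt K G aX).p.IsHomLift (𝟙 a.left ≫ a.hom) (j.inv ≫ toA A y hA a) :=
      @IsHomLift.comp _ _ _ _ (SpQuotSt K G aX).p _ _ _ _ _ _ _ _ _ _ hjinv (toA_lift A y hA a)
    rw [Category.id_comp] at hl
    exact base_eq_of_lift_self (h := hl) _ h
  let ξ : (ofSp A.P.left).obj := ⟨a.left, sect (sec h).left⟩
  have hξ : secYon ξ = (sec h).left := Equiv.symm_apply_apply _ _
  have hξx : A.φ.left.hom.app _ ξ.sec = x := by
    show A.φ.left.hom.app _ (sect (sec h).left) = x
    rw [← sect_comp, ← Over.comp_left, sec_φ]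
    exact Equiv.apply_symm_apply _ _
  let e1 : (leg₁ A).obj ξ ≅ a := Over.isoMk (Iso.refl _) (by
    show 𝟙 a.left ≫ a.hom = ((leg₁ A).obj ξ).hom
    apply (AlgSp.yon S).map_injective
    rw [Category.id_comp, leg₁_hom, hξ, sec_π_left, hhb])
  let e2 : (ofSpMap A.φ.left).obj ξ ≅ b₀ :=
    { hom := ⟨𝟙 a.left, by
        show X.left.obj.map (𝟙 a.left).op x = A.φ.left.hom.app _ ξ.sec
        rw [hξx]; simp⟩
      inv := ⟨𝟙 a.left, by
        show X.left.obj.map (𝟙 a.left).op (A.φ.left.hom.app _ ξ.sec) = x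
        rw [hξx]; simp⟩
      hom_inv_id := Stk.EltObj.hom_ext (Category.id_comp _)
      inv_hom_id := Stk.EltObj.hom_ext (Category.id_comp _) }
  have hw : y.map e1.hom ≫ j.hom = i.hom.toNatTrans.app ξ ≫ (spQuotMap K G aX).map e2.hom := by
    refine hom_ext_lift h ?_ ?_
    · haveI : (FibCat.overCat A.base).p.IsHomLift (𝟙 a.left) e1.hom :=
        IsHomLift.map (FibCat.overCat A.base).p e1.hom
      haveI : (ofSp X.left).p.IsHomLift (𝟙 a.left) e2.hom := IsHomLift.map (ofSp X.left).p e2.hom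
      haveI := BasedFunctor.preserves_isHomLift y (𝟙 a.left) e1.hom
      haveI := BasedFunctor.preserves_isHomLift (spQuotMap K G aX) (𝟙 a.left) e2.hom
      haveI : (SpQuotSt K G aX).p.IsHomLift (𝟙 a.left) (i.hom.toNatTrans.app ξ) :=
        BasedNatTrans.isHomLift i.hom rfl
      exact base_eq_of_lift (h := inferInstance) (h' := inferInstance) (𝟙 a.left) _ _
    · have lhs : (y.map e1.hom ≫ j.hom) ≫ h = toA A y hA ((leg₁ A).obj ξ) := by
        simp only [h, Category.assoc, Iso.hom_inv_id_assoc]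
        exact toA_nat A y hA e1.hom
      have rhs : (spQuotMap K G aX).map e2.hom ≫ h = ptHom A ξ := by
        refine hom_ext_sec (Over.OverMorphism.ext ?_)
        rw [sec_precomp, sec_homOfPt]
        exact ((congrArg (fun q => q ≫ (sec h).left) ((AlgSp.yon S).map_id _)).trans
          (Category.id_comp _)).trans hξ.symm
      rw [lhs, Category.assoc, rhs]
      exact (key ξ).symm
  let E := FibCat.fpLift (F := y) (G := spQuotMap K G aX) (leg₁ A) (ofSpMap A.φ.left) i
  let z : (FibCat.fp y (spQuotMap K G aX)).obj := ⟨⟨a, b₀, j⟩, hj⟩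
  let d : E.obj ξ ≅ z := fpIsoMk (x := E.obj ξ) (y := z) e1 e2 hw
  refine ⟨ξ, d, ?_⟩
  haveI : (FibCat.overCat A.base).p.IsHomLift (𝟙 a.left) d.hom.hom.fst :=
    IsHomLift.map (FibCat.overCat A.base).p e1.hom
  exact isHomLift_of_fst (𝟙 a.left) d.hom

end

theorem spMapOfOver_leg₁ (A : SpQuotObj K G aX) : spMapOfOver (leg₁ A) = A.π.left := by
  apply ObjectProperty.hom_ext
  ext T x
  apply ULift.ext
  exact Category.id_comp _

theorem repWith_spQuotMap (P : MorphismProperty (AlgSp.Sp S))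
    (hB : AlgSp.IsAlgSpace B) (hG : AlgSp.IsAlgSpace G.left)
    (hP : ∀ A : SpQuotObj Scheme.fppfPrecoverage G aX, P A.π.left) :
    RepByAlgSpWith P (spQuotMap Scheme.fppfPrecoverage G aX) := by
  intro U y
  obtain ⟨A, hA⟩ : ∃ A, A = y.obj (Over.mk (𝟙 U)) := ⟨_, rfl⟩
  have hU : A.base = U := hA ▸ y.w_obj (Over.mk (𝟙 U))
  subst hU
  obtain ⟨i, key⟩ := exists_twoMor A y hA.symm
  haveI := chart_faithful A y i
  haveI := chart_full A y hA.symm i key
  refine ⟨⟨A.P.left, isAlgSpace_P hB hG A⟩,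
    FibCat.fpLift (F := y) (G := spQuotMap Scheme.fppfPrecoverage G aX) (leg₁ A) (ofSpMap A.φ.left) i,
    isEquivOver_of _ (chart_essSurj A y hA.symm i key), ?_⟩
  show P (spMapOfOver (leg₁ A))
  rw [spMapOfOver_leg₁]
  exact hP A

end Groth.Agent.SpQuot16
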