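import Groth.Prelude.Def_AlgSt6
import Groth.Agent.Lib.SpQuot16.Yon
import Groth.Agent.Lib.FC16.Fiber

/-! Calculus of sheaf torsors for the quotient category `[X/G]`. -/

universe u

open CategoryTheory CategoryTheory.Limits MonoidalCategory CartesianMonoidalCategory MonObj GrpObj
  AlgebraicGeometry

set_option linter.style.haveILetI false
set_option linter.unusedSectionVars false
set_option linter.unusedSimpArgs false
set_option backward.isDefEq.respectTransparency false
set_option backward.isDefEq.respectTransparency.types false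

namespace Groth.Agent.SpQuot16

open AlgSt

variable {S : Scheme.{u}} {B : AlgSp.Sp S} {G : Over B} [GrpObj G]

/-- the unit section of a trivial torsor -/
noncomputable def unitSec (W : Over B) : W ⟶ G ⊗ W := lift (toUnit W ≫ η[G]) (𝟙 W)

@[reassoc (attr := simp)]
lemma unitSec_snd (W : Over B) : unitSec W ≫ snd G W = 𝟙 W := lift_snd _ _

lemma unitSec_natural {W W' : Over B} (f : W' ⟶ W) :
    unitSec (G := G) W' ≫ (G ◁ f) = f ≫ unitSec W := by
  apply CartesianMonoidalCategory.hom_ext
  · simp [unitSec]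
  · simp [unitSec]

lemma unitSec_whisker_act {P W : Over B} (a : AlgSp.GAction G P) (σ : W ⟶ P) :
    unitSec W ≫ (G ◁ σ) ≫ a.act = σ := by
  rw [← Category.assoc, unitSec_natural, Category.assoc]
  have h : unitSec (G := G) P ≫ a.act = 𝟙 P := by
    have e : unitSec (G := G) P = (λ_ P).inv ≫ (η[G] ▷ P) := by
      apply CartesianMonoidalCategory.hom_ext <;> simp [unitSec]
    rw [e, Category.assoc, a.one_act, Iso.inv_hom_id]
  rw [h, Category.comp_id]

/-- the two descriptions of the action of `G` on `G ⊗ W` through a point -/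
lemma leftMul_whisker {P W : Over B} (a : AlgSp.GAction G P) (σ : W ⟶ P) :
    (spLeftMul G W).act ≫ (G ◁ σ) ≫ a.act = (G ◁ ((G ◁ σ) ≫ a.act)) ≫ a.act := by
  have hm : (G ◁ a.act) ≫ a.act = (α_ G G P).inv ≫ (μ[G] ▷ P) ≫ a.act := by
    rw [a.mul_act, Iso.inv_hom_id_assoc]
  have hμ : fst (G ⊗ G) P ≫ μ[G] = (fst _ _ ≫ fst G G) * (fst _ _ ≫ snd G G) := by
    rw [Hom.mul_def, ← comp_lift, lift_fst_snd, Category.comp_id]
  have h : (spLeftMul G W).act ≫ (G ◁ σ) = (G ◁ (G ◁ σ)) ≫ (α_ G G P).inv ≫ (μ[G] ▷ P) := by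
    apply CartesianMonoidalCategory.hom_ext
    · simp only [spLeftMul, Category.assoc, lift_fst, lift_snd, lift_fst_assoc, lift_snd_assoc, comp_lift, comp_mul, whiskerLeft_fst, whiskerLeft_snd, whiskerLeft_fst_assoc, whiskerLeft_snd_assoc, whiskerRight_fst, whiskerRight_snd, whiskerRight_fst_assoc, whiskerRight_snd_assoc, associator_hom_fst, associator_hom_snd_fst, associator_hom_snd_snd, associator_hom_snd_fst_assoc, associator_hom_snd_snd_assoc, associator_inv_fst_fst, associator_inv_fst_snd, associator_inv_snd, associator_inv_fst_fst_assoc, associator_inv_fst_snd_assoc, associator_inv_snd_assoc, hμ]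
    · simp only [spLeftMul, Category.assoc, lift_fst, lift_snd, lift_fst_assoc, lift_snd_assoc, comp_lift, comp_mul, whiskerLeft_fst, whiskerLeft_snd, whiskerLeft_fst_assoc, whiskerLeft_snd_assoc, whiskerRight_fst, whiskerRight_snd, whiskerRight_fst_assoc, whiskerRight_snd_assoc, associator_hom_fst, associator_hom_snd_fst, associator_hom_snd_snd, associator_hom_snd_fst_assoc, associator_hom_snd_snd_assoc, associator_inv_fst_fst, associator_inv_fst_snd, associator_inv_snd, associator_inv_fst_fst_assoc, associator_inv_fst_snd_assoc, associator_inv_snd_assoc]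
  rw [reassoc_of% h, MonoidalCategory.whiskerLeft_comp, Category.assoc, hm]

variable {K : Precoverage Scheme.{u}} {X : Over B} {aX : AlgSp.GAction G X}

/-- a morphism over a base is invariant on the action -/
lemma act_π (A : SpQuotObj K G aX) : A.act.act ≫ A.π = snd G A.P ≫ A.π := A.cart.w

lemma act_π_left (A : SpQuotObj K G aX) : A.act.act.left ≫ A.π.left = (snd G A.P).left ≫ A.π.left :=
  congrArg (fun q => q.left) A.cart.w

lemma isPullback_pt (A : SpQuotObj K G aX) {W : Over B} (σ : W ⟶ A.P) :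
    IsPullback ((G ◁ σ) ≫ A.act.act) (snd G W) A.π (σ ≫ A.π) :=
  (isPullback_whiskerLeft' σ).paste_horiz A.cart

/-- a morphism of torsors over an isomorphism is an isomorphism -/
theorem isIso_of_isIso_base {A B' : SpQuotObj K G aX} (φ : A ⟶ B') [IsIso φ.base] : IsIso φ := by
  have wb' : (AlgSp.yon S).map (inv φ.base) ≫ A.b = B'.b := by
    rw [← SpQuotObj.hom_wb φ, ← Category.assoc, ← Functor.map_comp, IsIso.inv_hom_id, CategoryTheory.Functor.map_id,
      Category.id_comp]
  haveI : IsIso (bHom φ.base (SpQuotObj.hom_wb φ)) :=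
    ⟨bHom (inv φ.base) wb', by ext; simp [← Functor.map_comp], by ext; simp [← Functor.map_comp]⟩
  haveI : IsIso φ.top := φ.cart.isIso_fst_of_isIso
  refine ⟨{ base := inv φ.base, wb := wb', top := inv φ.top, eqv := ?_, cart := ?_, wφ := ?_ },
    SpQuotObj.hom_ext (IsIso.hom_inv_id _) (IsIso.hom_inv_id _),
    SpQuotObj.hom_ext (IsIso.inv_hom_id _) (IsIso.inv_hom_id _)⟩
  · rw [IsIso.comp_inv_eq, Category.assoc, φ.eqv, ← MonoidalCategory.whiskerLeft_comp_assoc,
      IsIso.inv_hom_id, MonoidalCategory.whiskerLeft_id, Category.id_comp]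
  · haveI : IsIso (bHom (inv φ.base) wb') :=
      ⟨bHom φ.base (SpQuotObj.hom_wb φ), by ext; simp [← Functor.map_comp],
        by ext; simp [← Functor.map_comp]⟩
    refine IsPullback.of_horiz_isIso ⟨?_⟩
    rw [IsIso.inv_comp_eq, ← Category.assoc, φ.cart.w, Category.assoc, ← bHom_comp φ.base (inv φ.base) (SpQuotObj.hom_wb φ) wb'
      (by simp)]
    have e : bHom (φ.base ≫ inv φ.base) (show (AlgSp.yon S).map (φ.base ≫ inv φ.base) ≫ A.b = A.b by simp) = 𝟙 (Over.mk A.b) := by
      ext : 1
      simp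
    exact (((congrArg (fun q => A.π ≫ q) e).trans (Category.comp_id _)).symm)
  · rw [IsIso.inv_comp_eq, φ.wφ]

section QuotMap

variable [K.HasIsos]

variable (K aX) in
/-- the trivial torsor of a point of `X` -/
noncomputable abbrev triv (a : (ofSp X.left).obj) : SpQuotObj K G aX := (spQuotMap K G aX).obj a

/-- the scheme of a point, over `B` -/
noncomputable abbrev ptOver (a : (ofSp X.left).obj) : Over B := Over.mk (secYon a ≫ X.hom)

/-- the morphism from a trivial torsor attached to a point of a torsor -/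
noncomputable def homOfPt (A : SpQuotObj K G aX) (a : (ofSp X.left).obj) (σ : ptOver a ⟶ A.P)
    (hσ : σ ≫ A.φ = secOver a) : triv K aX a ⟶ A where
  base := (AlgSp.yon S).preimage (σ ≫ A.π).left
  wb := by
    rw [Functor.map_preimage]
    exact Over.w (σ ≫ A.π)
  top := (G ◁ σ) ≫ A.act.act
  eqv := leftMul_whisker A.act σ
  cart := by
    have w : (AlgSp.yon S).map ((AlgSp.yon S).preimage (σ ≫ A.π).left) ≫ A.b = secYon a ≫ X.hom :=
      (congrArg (fun q => q ≫ A.b) ((AlgSp.yon S).map_preimage _)).trans (Over.w (σ ≫ A.π))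
    have e : bHom ((AlgSp.yon S).preimage (σ ≫ A.π).left) w = σ ≫ A.π := by
      ext : 1
      exact (AlgSp.yon S).map_preimage _
    rw [e]
    exact isPullback_pt A σ
  wφ := by
    show ((G ◁ σ) ≫ A.act.act) ≫ A.φ = (G ◁ secOver a) ≫ aX.act
    rw [Category.assoc, A.eqv, ← MonoidalCategory.whiskerLeft_comp_assoc, hσ]

/-- the point attached to a morphism from a trivial torsor -/
noncomputable def sec {A : SpQuotObj K G aX} {a : (ofSp X.left).obj} (h : triv K aX a ⟶ A) :
    ptOver a ⟶ A.P :=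
  unitSec (ptOver a) ≫ h.top

lemma top_eq {A : SpQuotObj K G aX} {a : (ofSp X.left).obj} (h : triv K aX a ⟶ A) :
    h.top = (G ◁ sec h) ≫ A.act.act := by
  have h' : (spLeftMul G (ptOver a)).act ≫ h.top = (G ◁ h.top) ≫ A.act.act := h.eqv
  have he : (G ◁ sec h) ≫ A.act.act =
      (G ◁ unitSec (ptOver a)) ≫ (spLeftMul G (ptOver a)).act ≫ h.top := by
    rw [h', sec, MonoidalCategory.whiskerLeft_comp, Category.assoc]
  have e : (G ◁ unitSec (ptOver a)) ≫ (spLeftMul G (ptOver a)).act = 𝟙 (G ⊗ ptOver a) := by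
    apply CartesianMonoidalCategory.hom_ext
    · simp only [spLeftMul, unitSec, Category.assoc, lift_fst, comp_mul, whiskerLeft_fst,
        whiskerLeft_snd_assoc, Category.id_comp]
      have h1 : snd G (ptOver a) ≫ toUnit _ ≫ η[G] = 1 := by
        rw [Hom.one_def, ← Category.assoc, toUnit_unique (snd G (ptOver a) ≫ toUnit _) (toUnit _)]
      rw [h1, _root_.mul_one]
    · simp [spLeftMul, unitSec]
  rw [he, ← Category.assoc, e, Category.id_comp]

lemma sec_π {A : SpQuotObj K G aX} {a : (ofSp X.left).obj} (h : triv K aX a ⟶ A) :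
    sec h ≫ A.π = bHom h.base (SpQuotObj.hom_wb h) := by
  have hw : h.top ≫ A.π = snd G (ptOver a) ≫ bHom h.base (SpQuotObj.hom_wb h) := h.cart.w
  rw [sec, Category.assoc, hw, unitSec_snd_assoc]

lemma sec_φ {A : SpQuotObj K G aX} {a : (ofSp X.left).obj} (h : triv K aX a ⟶ A) :
    sec h ≫ A.φ = secOver a := by
  have hw : h.top ≫ A.φ = (G ◁ secOver a) ≫ aX.act := h.wφ
  rw [sec, Category.assoc, hw, unitSec_whisker_act]

lemma sec_π_left {A : SpQuotObj K G aX} {a : (ofSp X.left).obj} (h : triv K aX a ⟶ A) :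
    (sec h).left ≫ A.π.left = (AlgSp.yon S).map h.base :=
  congrArg (fun q => q.left) (sec_π h)

@[simp] lemma sec_homOfPt (A : SpQuotObj K G aX) (a : (ofSp X.left).obj) (σ : ptOver a ⟶ A.P)
    (hσ : σ ≫ A.φ = secOver a) : sec (homOfPt A a σ hσ) = σ := by
  show unitSec (ptOver a) ≫ (G ◁ σ) ≫ A.act.act = σ
  rw [unitSec_whisker_act]

lemma hom_ext_sec {A : SpQuotObj K G aX} {a : (ofSp X.left).obj} {h h' : triv K aX a ⟶ A}
    (e : sec h = sec h') : h = h' :=
  SpQuotObj.hom_ext ((AlgSp.yon S).map_injective (by rw [← sec_π_left, ← sec_π_left, e]))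
    (by rw [top_eq h, top_eq h', e])

lemma sec_comp {A A' : SpQuotObj K G aX} {a : (ofSp X.left).obj} (h : triv K aX a ⟶ A) (g : A ⟶ A') :
    sec (h ≫ g) = sec h ≫ g.top := by
  simp [sec]

lemma sec_precomp {A : SpQuotObj K G aX} {a a' : (ofSp X.left).obj} (k : a' ⟶ a)
    (h : triv K aX a ⟶ A) :
    (sec ((spQuotMap K G aX).map k ≫ h)).left = (AlgSp.yon S).map k.hom ≫ (sec h).left := by
  have wk : (AlgSp.yon S).map k.hom ≫ secYon a ≫ X.hom = secYon a' ≫ X.hom := by
    rw [← Category.assoc, secYon_comp]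
  have : sec ((spQuotMap K G aX).map k ≫ h) = bHom k.hom wk ≫ sec h := by
    show unitSec (ptOver a') ≫ (G ◁ bHom k.hom wk) ≫ h.top = bHom k.hom wk ≫ unitSec (ptOver a) ≫ h.top
    rw [← Category.assoc, unitSec_natural, Category.assoc]
  rw [this]
  rfl

end QuotMap

section FibGrpd

lemma isStronglyCartesian_hom {A A' : SpQuotObj K G aX} (h : A ⟶ A') :
    (SpQuotSt K G aX).p.IsStronglyCartesian ((SpQuotSt K G aX).p.map h) h where
  universal_property' {C} g ψ hψ := by
    have hb : ψ.base = g ≫ h.base := by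
      have := IsHomLift.fac' (SpQuotSt K G aX).p (g ≫ (SpQuotSt K G aX).p.map h) ψ
      simp at this
      exact this
    have wg : (AlgSp.yon S).map g ≫ A.b = C.b := by
      rw [← SpQuotObj.hom_wb h, ← Category.assoc, ← Functor.map_comp, ← hb, SpQuotObj.hom_wb ψ]
    have hbb : bHom ψ.base (SpQuotObj.hom_wb ψ) = bHom g wg ≫ bHom h.base (SpQuotObj.hom_wb h) := by
      ext : 1
      simp [hb]
    have hw : ψ.top ≫ A'.π = (C.π ≫ bHom g wg) ≫ bHom h.base (SpQuotObj.hom_wb h) := by
      rw [ψ.cart.w, hbb, Category.assoc]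
    let t : C.P ⟶ A.P := h.cart.lift ψ.top (C.π ≫ bHom g wg) hw
    have ht1 : t ≫ h.top = ψ.top := h.cart.lift_fst _ _ _
    have ht2 : t ≫ A.π = C.π ≫ bHom g wg := h.cart.lift_snd _ _ _
    let χ : C ⟶ A :=
      { base := g
        wb := wg
        top := t
        eqv := by
          apply h.cart.hom_ext
          · rw [Category.assoc, ht1, ψ.eqv, Category.assoc, h.eqv, ← MonoidalCategory.whiskerLeft_comp_assoc,
              ht1]
          · rw [Category.assoc, ht2, ← Category.assoc, act_π, Category.assoc, Category.assoc, act_π,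
              whiskerLeft_snd_assoc, ht2]
        cart := IsPullback.of_right (by rw [ht1, ← hbb]; exact ψ.cart) ht2 h.cart
        wφ := by rw [← h.wφ, ← Category.assoc, ht1, ψ.wφ] }
    have hχ : (SpQuotSt K G aX).p.IsHomLift g χ := IsHomLift.map (SpQuotSt K G aX).p χ
    refine ⟨χ, ⟨hχ, SpQuotObj.hom_ext hb.symm ht1⟩, ?_⟩
    rintro χ' ⟨hχ', he⟩
    have hb' : χ'.base = g := by
      have := IsHomLift.fac' (SpQuotSt K G aX).p g χ'
      simp at this
      exact this
    refine SpQuotObj.hom_ext hb' (h.cart.hom_ext ?_ ?_)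
    · rw [← SpQuotObj.comp_top, he]; exact ht1.symm
    · rw [χ'.cart.w]
      exact (congrArg (fun q => C.π ≫ q) (by ext : 1; simp [hb'])).trans ht2.symm

variable [K.IsStableUnderBaseChange]

lemma pullback_loc {T V : Over S} (f : V ⟶ T) {P P' : AlgSp.Sp S} {π : P ⟶ (AlgSp.yon S).obj T}
    {π' : P' ⟶ (AlgSp.yon S).obj V} {t : P' ⟶ P}
    (h : IsPullback t π' π ((AlgSp.yon S).map f)) (hl : HasSecLoc K π) : HasSecLoc K π' := by
  obtain ⟨R, hR, hs⟩ := hl
  refine ⟨R.pullbackArrows f.left, Precoverage.pullbackArrows_mem f.left hR, ?_⟩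
  rintro _ _ ⟨Z, j, hj⟩
  obtain ⟨s, hs⟩ := hs j hj
  let k : Over.mk (pullback.snd j f.left ≫ V.hom) ⟶ Over.mk (j ≫ T.hom) :=
    Over.homMk (pullback.fst j f.left) (by
      show pullback.fst j f.left ≫ j ≫ T.hom = pullback.snd j f.left ≫ V.hom
      rw [pullback.condition_assoc, Over.w f])
  have hk : k ≫ (Over.homMk j : Over.mk (j ≫ T.hom) ⟶ T) =
      (Over.homMk (pullback.snd j f.left) : Over.mk (pullback.snd j f.left ≫ V.hom) ⟶ V) ≫ f :=
    Over.OverMorphism.ext pullback.condition
  refine ⟨h.lift ((AlgSp.yon S).map k ≫ s) ((AlgSp.yon S).map (Over.homMk (pullback.snd j f.left)))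
    (by rw [Category.assoc, hs, ← Functor.map_comp, ← Functor.map_comp, hk]), h.lift_snd _ _ _⟩

lemma exists_pullbackObj (A : SpQuotObj K G aX) {V : Over S} (f : V ⟶ A.base) :
    ∃ (A' : SpQuotObj K G aX) (h : A' ⟶ A), (SpQuotSt K G aX).p.IsHomLift f h := by
  let bf : Over.mk ((AlgSp.yon S).map f ≫ A.b) ⟶ Over.mk A.b := bHom f rfl
  have sq := IsPullback.of_hasPullback A.π bf
  let t := pullback.fst A.π bf
  let q := pullback.snd A.π bf
  have hw : ((G ◁ t) ≫ A.act.act) ≫ A.π = (snd G (pullback A.π bf) ≫ q) ≫ bf := by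
    rw [Category.assoc, act_π, whiskerLeft_snd_assoc, sq.w, Category.assoc]
  let b : G ⊗ pullback A.π bf ⟶ pullback A.π bf := sq.lift ((G ◁ t) ≫ A.act.act) (snd G _ ≫ q) hw
  have hb1 : b ≫ t = (G ◁ t) ≫ A.act.act := sq.lift_fst _ _ _
  have hb2 : b ≫ q = snd G _ ≫ q := sq.lift_snd _ _ _
  let act : AlgSp.GAction G (pullback A.π bf) :=
    { act := b
      one_act := by
        apply sq.hom_ext
        · show ((η[G] ▷ _) ≫ b) ≫ t = (λ_ (pullback A.π bf)).hom ≫ t
          rw [Category.assoc, hb1, ← whisker_exchange_assoc, A.act.one_act]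
          apply leftUnitor_naturality
        · show ((η[G] ▷ _) ≫ b) ≫ q = (λ_ (pullback A.π bf)).hom ≫ q
          rw [Category.assoc, hb2, whiskerRight_snd_assoc, leftUnitor_hom]
      mul_act := by
        apply sq.hom_ext
        · show ((μ[G] ▷ _) ≫ b) ≫ t = ((α_ G G _).hom ≫ (G ◁ b) ≫ b) ≫ t
          rw [Category.assoc, hb1, ← whisker_exchange_assoc, A.act.mul_act, Category.assoc,
            Category.assoc, hb1, ← MonoidalCategory.whiskerLeft_comp_assoc, hb1,
            MonoidalCategory.whiskerLeft_comp, Category.assoc, tensor_whiskerLeft]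
          simp only [Category.assoc, Iso.inv_hom_id_assoc]
        · show ((μ[G] ▷ _) ≫ b) ≫ q = ((α_ G G _).hom ≫ (G ◁ b) ≫ b) ≫ q
          simp only [Category.assoc, hb2, whiskerRight_snd_assoc, whiskerLeft_snd_assoc,
            associator_hom_snd_snd_assoc] }
  have outer : IsPullback (b ≫ t) (snd G _) A.π (q ≫ bf) := by
    rw [hb1, ← sq.w]; exact (isPullback_whiskerLeft' t).paste_horiz A.cart
  let A' : SpQuotObj K G aX :=
          { base := V
            b := (AlgSp.yon S).map f ≫ A.b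
            P := pullback A.π bf
            act := act
            π := q
            cart := IsPullback.of_right outer hb2 sq
            loc := pullback_loc f (sq.map (Over.forget B)) A.loc
            φ := t ≫ A.φ
            eqv := by rw [reassoc_of% hb1, A.eqv, ← MonoidalCategory.whiskerLeft_comp_assoc] }
  let h : A' ⟶ A :=
          { base := f
            wb := rfl
            top := t
            eqv := hb1
            cart := sq
            wφ := rfl }
  exact ⟨A', h, IsHomLift.map (SpQuotSt K G aX).p h⟩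

theorem isFibGrpd : FibCat.IsFibGrpd (SpQuotSt K G aX).p where
  exists_lift {A V} f := exists_pullbackObj A f
  isStronglyCartesian h := isStronglyCartesian_hom h

end FibGrpd

lemma base_eq_of_lift {A A' : SpQuotObj K G aX} {V W : Over S} (f : V ⟶ W) (φ φ' : A ⟶ A')
    [h : (SpQuotSt K G aX).p.IsHomLift f φ] [h' : (SpQuotSt K G aX).p.IsHomLift f φ'] : φ.base = φ'.base :=
  (IsHomLift.fac' (SpQuotSt K G aX).p f φ).trans (IsHomLift.fac' (SpQuotSt K G aX).p f φ').symm

lemma base_eq_of_lift_self {A A' : SpQuotObj K G aX} (f : A.base ⟶ A'.base) (φ : A ⟶ A')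
    [h : (SpQuotSt K G aX).p.IsHomLift f φ] : φ.base = f := by
  have := IsHomLift.fac' (SpQuotSt K G aX).p f φ
  simp at this
  exact this

end Groth.Agent.SpQuot16
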