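import Groth.Agent.Lib.SpQuot16.Yon
import Mathlib.CategoryTheory.Limits.Shapes.Pullback.IsPullback.Basic

/-! Gluing sheaves given over the members of a covering sieve. -/

universe u

open CategoryTheory CategoryTheory.Limits AlgebraicGeometry Opposite

set_option linter.style.haveILetI false
set_option linter.unusedSectionVars false
set_option backward.isDefEq.respectTransparency false
set_option backward.isDefEq.respectTransparency.types false

namespace Groth.Agent.SpQuot16

open AlgSp Groth.Agent.AlgSpace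

variable {S : Scheme.{u}}

/-- the index category of a sieve -/
abbrev Ix {U : Over S} (R : Sieve U) := R.arrows.category

/-- a family of sheaves over the members of a sieve, cartesian over the transition maps -/
structure SheafDat {U : Over S} (R : Sieve U) where
  /-- the members -/
  Q : Ix R → Sp S
  /-- projections -/
  π : ∀ c, Q c ⟶ (yon S).obj c.obj.left
  /-- transition maps -/
  tr : ∀ {a b : Ix R}, (a ⟶ b) → (Q a ⟶ Q b)
  tr_comp : ∀ {a b c : Ix R} (g : a ⟶ b) (h : b ⟶ c), tr (g ≫ h) = tr g ≫ tr h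
  sq : ∀ {a b : Ix R} (g : a ⟶ b), IsPullback (tr g) (π a) (π b) ((yon S).map g.hom.left)

namespace SheafDat

variable {U : Over S} {R : Sieve U} (D : SheafDat R)

lemma sq_w {a b : Ix R} (g : a ⟶ b) : D.tr g ≫ D.π b = D.π a ≫ (yon S).map g.hom.left := (D.sq g).w

/-- a compatible family of sections over all members mapping to `V` -/
structure Pt (V : Over S) where
  /-- the point of the base -/
  g : V ⟶ U
  /-- the sections -/
  s : ∀ (c : Ix R) (k : c.obj.left ⟶ V), k ≫ g = c.obj.hom → ((yon S).obj c.obj.left ⟶ D.Q c)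
  s_π : ∀ c k e, s c k e ≫ D.π c = 𝟙 _
  s_nat : ∀ {a b : Ix R} (m : a ⟶ b) (k : b.obj.left ⟶ V) (e : k ≫ g = b.obj.hom)
    (e' : (m.hom.left ≫ k) ≫ g = a.obj.hom),
    (yon S).map m.hom.left ≫ s b k e = s a (m.hom.left ≫ k) e' ≫ D.tr m

variable {D}

lemma Pt.ext {V : Over S} {x y : D.Pt V} (hg : x.g = y.g)
    (hs : ∀ c k e e', x.s c k e = y.s c k e') : x = y := by
  obtain ⟨g, s, s1, s2⟩ := x
  obtain ⟨g', s', s1', s2'⟩ := y
  obtain rfl : g = g' := hg
  obtain rfl : s = s' := funext fun c => funext fun k => funext fun e => hs c k e e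
  rfl

lemma Pt.s_congr {V : Over S} (x : D.Pt V) {c : Ix R} {k k' : c.obj.left ⟶ V} (h : k = k')
    (e : k ≫ x.g = c.obj.hom) (e' : k' ≫ x.g = c.obj.hom) : x.s c k e = x.s c k' e' := by
  subst h; rfl

/-- restriction -/
def Pt.map {V W : Over S} (f : W ⟶ V) (x : D.Pt V) : D.Pt W where
  g := f ≫ x.g
  s c k e := x.s c (k ≫ f) ((Category.assoc _ _ _).trans e)
  s_π _ _ _ := x.s_π _ _ _
  s_nat {a b} m k e e' := by
    rw [x.s_nat m (k ≫ f) _ ((Category.assoc _ _ _).trans ((congrArg (fun q => m.hom.left ≫ q)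
      ((Category.assoc _ _ _).trans e)).trans (Over.w m.hom)))]
    exact congrArg (fun q => q ≫ D.tr m) (x.s_congr (Category.assoc _ _ _).symm _ _)

lemma Pt.map_id {V : Over S} (x : D.Pt V) : x.map (𝟙 V) = x :=
  Pt.ext (Category.id_comp _) fun _ _ _ _ => x.s_congr (Category.comp_id _) _ _

lemma Pt.map_comp {V W Z : Over S} (f : W ⟶ V) (f' : Z ⟶ W) (x : D.Pt V) :
    x.map (f' ≫ f) = (x.map f).map f' :=
  Pt.ext (Category.assoc _ _ _) fun _ _ _ _ => x.s_congr (Category.assoc _ _ _).symm _ _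

/-- evaluation of a point at a member through a morphism -/
noncomputable def Pt.ev {V : Over S} (x : D.Pt V) (c : Ix R) (k : V ⟶ c.obj.left)
    (h : k ≫ c.obj.hom = x.g) : (yon S).obj V ⟶ D.Q c :=
  x.s ⟨Over.mk x.g, h ▸ R.downward_closed c.property k⟩ (𝟙 V) (Category.id_comp _) ≫
    D.tr (ObjectProperty.homMk (Over.homMk k h))

lemma Pt.ev_π {V : Over S} (x : D.Pt V) (c : Ix R) (k : V ⟶ c.obj.left) (h : k ≫ c.obj.hom = x.g) :
    x.ev c k h ≫ D.π c = (yon S).map k := by
  rw [Pt.ev, Category.assoc, D.sq_w, ← Category.assoc, x.s_π]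
  exact Category.id_comp _

lemma Pt.ev_eq {V : Over S} (x : D.Pt V) {c c' : Ix R} (n : c' ⟶ c) (l : c'.obj.left ⟶ V)
    (e : l ≫ x.g = c'.obj.hom) (k : V ⟶ c.obj.left) (h : k ≫ c.obj.hom = x.g)
    (hn : n.hom.left = l ≫ k) :
    (yon S).map l ≫ x.ev c k h = x.s c' l e ≫ D.tr n := by
  let cV : Ix R := ⟨Over.mk x.g, h ▸ R.downward_closed c.property k⟩
  let m : c' ⟶ cV := ObjectProperty.homMk (Over.homMk l e)
  let m₀ : cV ⟶ c := ObjectProperty.homMk (Over.homMk k h)
  have hm : m ≫ m₀ = n := ObjectProperty.hom_ext _ (Over.OverMorphism.ext hn.symm)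
  show (yon S).map l ≫ x.s cV (𝟙 V) _ ≫ D.tr m₀ = x.s c' l e ≫ D.tr n
  rw [← hm, D.tr_comp, ← Category.assoc, ← Category.assoc (x.s c' l e)]
  refine congrArg (fun q => q ≫ D.tr m₀) ?_
  refine (x.s_nat m (𝟙 V) (Category.id_comp _) ?_).trans ?_
  · show (l ≫ 𝟙 V) ≫ x.g = c'.obj.hom
    rw [Category.comp_id, e]
  · exact congrArg (fun q => q ≫ D.tr m) (x.s_congr (Category.comp_id l) _ _)

lemma Pt.map_ev {V W : Over S} (f : W ⟶ V) (x : D.Pt V) (c : Ix R) (k : V ⟶ c.obj.left)
    (h : k ≫ c.obj.hom = x.g) (h' : (f ≫ k) ≫ c.obj.hom = (x.map f).g) :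
    (yon S).map f ≫ x.ev c k h = (x.map f).ev c (f ≫ k) h' := by
  let cW : Ix R := ⟨Over.mk (f ≫ x.g), R.downward_closed (h ▸ R.downward_closed c.property k) f⟩
  let n : cW ⟶ c := ObjectProperty.homMk (Over.homMk (f ≫ k) h')
  rw [x.ev_eq n f rfl k h rfl]
  exact congrArg (fun q => q ≫ D.tr n) (x.s_congr (Category.id_comp f).symm _ _)

lemma Pt.ev_congr {V : Over S} {x y : D.Pt V} (e : x = y) (c : Ix R) {k k' : V ⟶ c.obj.left}
    (hk : k = k') (h : k ≫ c.obj.hom = x.g) (h' : k' ≫ c.obj.hom = y.g) : x.ev c k h = y.ev c k' h' := by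
  subst e; subst hk; rfl

lemma Pt.s_eq_ev {V : Over S} (x : D.Pt V) (c : Ix R) (k : c.obj.left ⟶ V) (e : k ≫ x.g = c.obj.hom)
    (h : 𝟙 _ ≫ c.obj.hom = (x.map k).g) : x.s c k e = (x.map k).ev c (𝟙 _) h := by
  let cV : Ix R := ⟨Over.mk (x.map k).g, by
    show R (k ≫ x.g)
    rw [e]; exact c.property⟩
  let m : cV ⟶ c := ObjectProperty.homMk (Over.homMk (𝟙 _) h)
  show x.s c k e = x.s cV (𝟙 _ ≫ k) _ ≫ D.tr m
  refine ((Category.id_comp _).symm.trans ?_).trans (x.s_nat m k e (by
    show (𝟙 _ ≫ k) ≫ x.g = k ≫ x.g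
    rw [Category.id_comp]))
  exact congrArg (fun q => q ≫ x.s c k e) ((yon S).map_id _).symm

variable (D)

/-- the presheaf of compatible families -/
noncomputable def psh : (Over S)ᵒᵖ ⥤ Type (u + 1) where
  obj V := D.Pt V.unop
  map f := TypeCat.ofHom (Pt.map f.unop)
  map_id V := by
    ext x
    exact x.map_id
  map_comp f g := by
    ext x
    exact x.map_comp f.unop g.unop

theorem isSheaf_psh (hR : R ∈ AlgSp.J S U) : Presheaf.IsSheaf (AlgSp.J S) D.psh := by
  rw [isSheaf_iff_isSheaf_of_type]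
  intro V W hW fam hfam
  rw [Presieve.compatible_iff_sieveCompatible] at hfam
  have hfam' : ∀ {Z Z' : Over S} (l : Z ⟶ V) (m : Z' ⟶ Z) (hl : W l),
      fam (m ≫ l) (W.downward_closed hl m) = (fam l hl).map m := fun l m hl => hfam l m hl
  have hfc : ∀ {Z : Over S} {l l' : Z ⟶ V} (hl : W l) (hl' : W l'), l = l' → fam l hl = fam l' hl' := by
    rintro Z l l' hl hl' rfl; rfl
  obtain ⟨y, hy, hyu⟩ := existsUnique_glue hW (fun l hl => (yon S).map (fam l hl).g) (fun m l hl => by
    rw [← Functor.map_comp, hfam' l m hl]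
    rfl)
  let g : V ⟶ U := (yon S).preimage y
  have hg : ∀ {Z : Over S} (l : Z ⟶ V) (hl : W l), l ≫ g = (fam l hl).g := fun l hl => by
    apply (yon S).map_injective
    rw [Functor.map_comp, Functor.map_preimage, hy l hl]
  -- the candidate values
  have ev_h : ∀ (c : Ix R) (k : c.obj.left ⟶ V), k ≫ g = c.obj.hom →
      ∀ {Z : Over S} (m : Z ⟶ c.obj.left) (hm : W.pullback k m),
        m ≫ c.obj.hom = (fam (m ≫ k) hm).g := fun c k e {Z} m hm => by
    rw [← hg _ hm, Category.assoc, e]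
  have key : ∀ (c : Ix R) (k : c.obj.left ⟶ V) (e : k ≫ g = c.obj.hom),
      ∃! t : (yon S).obj c.obj.left ⟶ D.Q c, ∀ {Z : Over S} (m : Z ⟶ c.obj.left) (hm : W.pullback k m),
        (yon S).map m ≫ t = (fam (m ≫ k) hm).ev c m (ev_h c k e m hm) := fun c k e => by
    refine existsUnique_glue ((AlgSp.J S).pullback_stable k hW)
      (fun m hm => (fam (m ≫ k) hm).ev c m (ev_h c k e m hm)) fun n m hm => ?_
    refine (Pt.map_ev n (fam (m ≫ k) hm) c m (ev_h c k e m hm) ?_).trans ?_
    · show (n ≫ m) ≫ c.obj.hom = n ≫ (fam (m ≫ k) hm).g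
      rw [Category.assoc, ev_h c k e m hm]
    · refine Pt.ev_congr ((hfam' (m ≫ k) n hm).symm.trans (hfc _ _ (Category.assoc _ _ _).symm)) c rfl _ _
  choose t ht htu using key
  have tπ : ∀ c k e, t c k e ≫ D.π c = 𝟙 _ := fun c k e => by
    refine hom_ext_sieve ((AlgSp.J S).pullback_stable k hW) fun m hm => ?_
    rw [← Category.assoc, ht c k e m hm, Pt.ev_π, Category.comp_id]
  let x : D.Pt V :=
    { g := g
      s := t
      s_π := tπ
      s_nat := fun {a b} m k e e' => by
        refine hom_ext_sieve ((AlgSp.J S).pullback_stable (m.hom.left ≫ k) hW) fun l hl => ?_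
        have hl' : W.pullback k (l ≫ m.hom.left) := by
          show W ((l ≫ m.hom.left) ≫ k)
          rw [Category.assoc]; exact hl
        rw [← Functor.map_comp_assoc, ht b k e _ hl', ← Category.assoc, ht a _ e' l hl]
        show _ = (fam (l ≫ m.hom.left ≫ k) hl).ev a l _ ≫ D.tr m
        have e1 : (l ≫ m.hom.left) ≫ b.obj.hom = (fam (l ≫ m.hom.left ≫ k) hl).g := by
          rw [Category.assoc, Over.w m.hom]; exact ev_h a (m.hom.left ≫ k) e' l hl
        refine (Pt.ev_congr (hfc _ _ (Category.assoc _ _ _)) b rfl _ e1).trans ?_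
        rw [Pt.ev, Pt.ev, Category.assoc, ← D.tr_comp]
        exact congrArg (fun q => _ ≫ D.tr q) (ObjectProperty.hom_ext _ (Over.OverMorphism.ext rfl)) }
  refine ⟨x, fun Z l hl => ?_, fun x' hx' => ?_⟩
  · refine Pt.ext (hg l hl) fun c k e e' => ?_
    show t c (k ≫ l) _ = (fam l hl).s c k e'
    refine (htu c (k ≫ l) _ _ fun {Z'} m hm => ?_).symm
    rw [(fam l hl).s_eq_ev c k e' (by
      show 𝟙 _ ≫ c.obj.hom = k ≫ (fam l hl).g
      rw [Category.id_comp, e'])]
    refine (Pt.map_ev m _ c (𝟙 _) _ ?_).trans (Pt.ev_congr ?_ c (Category.comp_id m) _ _)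
    · show (m ≫ 𝟙 _) ≫ c.obj.hom = m ≫ k ≫ (fam l hl).g
      rw [Category.comp_id, e']
    · rw [← Pt.map_comp, ← hfam' l (m ≫ k) hl]
      exact hfc _ _ (Category.assoc _ _ _)
  · have hxg : x'.g = g := by
      apply (yon S).map_injective
      rw [Functor.map_preimage]
      refine hyu _ fun {Z} l hl => ?_
      rw [← Functor.map_comp]
      have e : Pt.map l x' = fam l hl := hx' l hl
      have e2 : (Pt.map l x').g = (fam l hl).g := congrArg Pt.g e
      exact congrArg (fun q => (yon S).map q) e2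
    refine Pt.ext hxg fun c k e e' => ?_
    refine htu c k e' _ fun {Z} m hm => ?_
    rw [x'.s_eq_ev c k e (by
      show 𝟙 _ ≫ c.obj.hom = k ≫ x'.g
      rw [Category.id_comp, e])]
    refine (Pt.map_ev m _ c (𝟙 _) _ ?_).trans (Pt.ev_congr ?_ c (Category.comp_id m) _ _)
    · show (m ≫ 𝟙 _) ≫ c.obj.hom = m ≫ k ≫ x'.g
      rw [Category.comp_id, e]
    · rw [← Pt.map_comp]
      exact hx' (m ≫ k) hm

/-- **Effectivity of descent for sheaves**: the family glues. -/
theorem exists_glued (hR : R ∈ AlgSp.J S U) :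
    ∃ (P : Sp S) (p : P ⟶ (yon S).obj U) (q : ∀ c, D.Q c ⟶ P),
      (∀ {a b : Ix R} (g : a ⟶ b), D.tr g ≫ q b = q a) ∧
      (∀ c, IsPullback (q c) (D.π c) p ((yon S).map c.obj.hom)) := by
  let P : Sp S := ⟨D.psh, D.isSheaf_psh hR⟩
  let pt : ∀ {V : Over S}, ((yon S).obj V ⟶ P) ≃ D.Pt V := sect
  have pt_map : ∀ {V W : Over S} (f : W ⟶ V) (z : (yon S).obj V ⟶ P),
      pt ((yon S).map f ≫ z) = (pt z).map f := fun f z => sect_map f z
  let p : P ⟶ (yon S).obj U := homOfYon (fun V z => (yon S).map (pt z).g) fun f z => by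
    rw [pt_map, ← Functor.map_comp]
    rfl
  have hp : ∀ {V : Over S} (z : (yon S).obj V ⟶ P), z ≫ p = (yon S).map (pt z).g := fun z =>
    comp_homOfYon _ _ z
  -- the maps from the members
  have mk : ∀ (c : Ix R) {V : Over S} (z : (yon S).obj V ⟶ D.Q c),
      ∃ w : D.Pt V, ∃ h : (yon S).preimage (z ≫ D.π c) ≫ c.obj.hom = w.g,
        w.ev c ((yon S).preimage (z ≫ D.π c)) h = z := by
    intro c V z
    let k₀ : V ⟶ c.obj.left := (yon S).preimage (z ≫ D.π c)
    have hk₀ : (yon S).map k₀ = z ≫ D.π c := Functor.map_preimage _ _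
    let n : ∀ (c' : Ix R) (k : c'.obj.left ⟶ V), k ≫ k₀ ≫ c.obj.hom = c'.obj.hom → (c' ⟶ c) :=
      fun c' k e => ObjectProperty.homMk (Over.homMk (k ≫ k₀) ((Category.assoc _ _ _).trans e))
    have hw : ∀ (c' : Ix R) (k : c'.obj.left ⟶ V) (e : k ≫ k₀ ≫ c.obj.hom = c'.obj.hom),
        ((yon S).map k ≫ z) ≫ D.π c = 𝟙 _ ≫ (yon S).map (n c' k e).hom.left := fun c' k e => by
      rw [Category.assoc, ← hk₀, ← Functor.map_comp, Category.id_comp]
      rfl
    let s := fun (c' : Ix R) (k : c'.obj.left ⟶ V) (e : k ≫ k₀ ≫ c.obj.hom = c'.obj.hom) =>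
      (D.sq (n c' k e)).lift ((yon S).map k ≫ z) (𝟙 _) (hw c' k e)
    have s1 : ∀ c' k e, s c' k e ≫ D.tr (n c' k e) = (yon S).map k ≫ z := fun c' k e =>
      (D.sq (n c' k e)).lift_fst _ _ _
    have s2 : ∀ c' k e, s c' k e ≫ D.π c' = 𝟙 _ := fun c' k e =>
      (D.sq (n c' k e)).lift_snd _ _ _
    let w : D.Pt V :=
      { g := k₀ ≫ c.obj.hom
        s := s
        s_π := s2
        s_nat := fun {a b} m k e e' => by
          have hn : m ≫ n b k e = n a (m.hom.left ≫ k) e' :=
            ObjectProperty.hom_ext _ (Over.OverMorphism.ext (Category.assoc _ _ _).symm)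
          apply (D.sq (n b k e)).hom_ext
          · rw [Category.assoc, s1 b k e, Category.assoc, ← D.tr_comp, hn, s1 a (m.hom.left ≫ k) e', ← Category.assoc,
              ← Functor.map_comp]
          · rw [Category.assoc, s2 b k e, Category.assoc, D.sq_w, ← Category.assoc, s2 a (m.hom.left ≫ k) e']
            exact (Category.comp_id _).trans (Category.id_comp _).symm }
    refine ⟨w, rfl, ?_⟩
    let cV : Ix R := ⟨Over.mk (k₀ ≫ c.obj.hom), R.downward_closed c.property k₀⟩
    let m₀ : cV ⟶ c := ObjectProperty.homMk (Over.homMk k₀ rfl)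
    have hn : n cV (𝟙 V) (Category.id_comp _) = m₀ :=
      ObjectProperty.hom_ext _ (Over.OverMorphism.ext (Category.id_comp k₀))
    show s cV (𝟙 V) (Category.id_comp _) ≫ D.tr m₀ = z
    rw [← hn, s1 cV (𝟙 V) (Category.id_comp _)]
    exact (congrArg (fun q => q ≫ z) ((yon S).map_id _)).trans (Category.id_comp z)
  -- uniqueness
  have uniq : ∀ (c : Ix R) {V : Over S} (w w' : D.Pt V) (k : V ⟶ c.obj.left) (h : k ≫ c.obj.hom = w.g)
      (h' : k ≫ c.obj.hom = w'.g), w.ev c k h = w'.ev c k h' → w = w' := by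
    intro c V w w' k h h' e
    refine Pt.ext (h.symm.trans h') fun c' l el el' => ?_
    let n : c' ⟶ c := ObjectProperty.homMk (Over.homMk (l ≫ k) (by
      show (l ≫ k) ≫ c.obj.hom = c'.obj.hom
      rw [Category.assoc, h, el]))
    apply (D.sq n).hom_ext
    · rw [← w.ev_eq n l el k h rfl, ← w'.ev_eq n l el' k h' rfl, e]
    · rw [w.s_π, w'.s_π]
  choose w hw hwe using mk
  have wnat : ∀ (c : Ix R) {V W : Over S} (f : W ⟶ V) (z : (yon S).obj V ⟶ D.Q c),
      w c ((yon S).map f ≫ z) = (w c z).map f := fun c {V W} f z => by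
    have hpre : (yon S).preimage (((yon S).map f ≫ z) ≫ D.π c) =
        f ≫ (yon S).preimage (z ≫ D.π c) := (yon S).map_injective (by
      rw [Functor.map_preimage, Functor.map_comp, Functor.map_preimage, Category.assoc])
    have h' : (f ≫ (yon S).preimage (z ≫ D.π c)) ≫ c.obj.hom = ((w c z).map f).g := by
      rw [Category.assoc, hw c z]; rfl
    refine uniq c _ _ (f ≫ (yon S).preimage (z ≫ D.π c))
      ((congrArg (fun q => q ≫ c.obj.hom) hpre.symm).trans (hw c _)) h' ?_
    rw [← Pt.map_ev f (w c z) c _ (hw c z) h', hwe c z]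
    exact (Pt.ev_congr rfl c hpre.symm _ _).trans (hwe c _)
  let q : ∀ c, D.Q c ⟶ P := fun c => homOfYon (fun V z => pt.symm (w c z)) fun {V W} f z => by
    apply pt.injective
    rw [Equiv.apply_symm_apply, pt_map, Equiv.apply_symm_apply, wnat]
  have hq : ∀ (c : Ix R) {V : Over S} (z : (yon S).obj V ⟶ D.Q c), pt (z ≫ q c) = w c z := fun c V z => by
    rw [comp_homOfYon]
    exact Equiv.apply_symm_apply _ _
  refine ⟨P, p, q, fun {a b} g => hom_ext_yon fun V z => pt.injective ?_, fun c => ?_⟩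
  · rw [← Category.assoc, hq, hq]
    have hpre : (yon S).preimage ((z ≫ D.tr g) ≫ D.π b) =
        (yon S).preimage (z ≫ D.π a) ≫ g.hom.left := (yon S).map_injective (by
      rw [Functor.map_preimage, Functor.map_comp, Functor.map_preimage, Category.assoc, D.sq_w,
        Category.assoc])
    have hg' : ((yon S).preimage (z ≫ D.π a) ≫ g.hom.left) ≫ b.obj.hom = (w a z).g := by
      rw [Category.assoc, Over.w g.hom]; exact hw a z
    refine uniq b _ _ _ ((congrArg (fun q => q ≫ b.obj.hom) hpre.symm).trans (hw b _)) hg' ?_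
    refine ((Pt.ev_congr rfl b hpre.symm _ _).trans (hwe b _)).trans ?_
    conv_lhs => rw [← hwe a z]
    rw [Pt.ev, Pt.ev, Category.assoc, ← D.tr_comp]
    exact (congrArg (fun q => _ ≫ D.tr q) (ObjectProperty.hom_ext _ (Over.OverMorphism.ext rfl))).symm
  · refine isPullback_of_yon (hom_ext_yon fun V z => ?_) fun V x y hxy => ?_
    · rw [← Category.assoc, hp, hq, ← hw c z, Functor.map_comp, Functor.map_preimage, Category.assoc]
    · let k : V ⟶ c.obj.left := (yon S).preimage y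
      have hk : k ≫ c.obj.hom = (pt x).g := (yon S).map_injective (by
        rw [Functor.map_comp, Functor.map_preimage, ← hxy, hp])
      have hz : (pt x).ev c k hk ≫ D.π c = y := by
        rw [Pt.ev_π, Functor.map_preimage]
      refine ⟨(pt x).ev c k hk, ⟨pt.injective ?_, hz⟩, fun z' hz' => ?_⟩
      · rw [hq]
        have hpre : (yon S).preimage ((pt x).ev c k hk ≫ D.π c) = k :=
          (yon S).map_injective (by rw [Functor.map_preimage, Pt.ev_π])
        exact uniq c _ _ k ((congrArg (fun q => q ≫ c.obj.hom) hpre.symm).trans (hw c _)) hk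
          ((Pt.ev_congr rfl c hpre.symm _ _).trans (hwe c _))
      · obtain ⟨h1, h2⟩ := hz'
        have hpre : (yon S).preimage (z' ≫ D.π c) = k := by rw [h2]
        refine (hwe c z').symm.trans (Pt.ev_congr ?_ c hpre _ _)
        rw [← hq c z', h1]

end SheafDat

end Groth.Agent.SpQuot16
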