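import Groth.Agent.Lib.SpQuot16.Isom

/-! The diagonal of the classifying stack of sheaf torsors. -/

universe u

open CategoryTheory CategoryTheory.Limits MonoidalCategory CartesianMonoidalCategory MonObj GrpObj
  AlgebraicGeometry

set_option linter.style.haveILetI false
set_option linter.unusedSectionVars false
set_option linter.unusedSimpArgs false
set_option backward.isDefEq.respectTransparency false
set_option backward.isDefEq.respectTransparency.types false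
set_option maxHeartbeats 1000000

namespace Groth.Agent.SpQuot16

open AlgSt
open FC16 hiding overMap
open Groth.Agent.AlgSpace (sect hom_ext_yon)

variable {S : Scheme.{u}} {B : AlgSp.Sp S} {G : Over B} [GrpObj G]

/-- the point of the unit object over a scheme with a section of the base -/
noncomputable def unitPt {V : Over S} (b : (AlgSp.yon S).obj V ⟶ B) : (ofSp (𝟙_ (Over B)).left).obj :=
  ⟨V, sect b⟩

lemma secYon_unitPt {V : Over S} (b : (AlgSp.yon S).obj V ⟶ B) : secYon (X := 𝟙_ (Over B)) (unitPt b) = b :=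
  Equiv.symm_apply_apply _ _

/-- morphisms of unit points -/
noncomputable def unitHom {V W : Over S} (k : W ⟶ V) {b : (AlgSp.yon S).obj V ⟶ B}
    {b' : (AlgSp.yon S).obj W ⟶ B} (w : (AlgSp.yon S).map k ≫ b = b') : unitPt b' ⟶ unitPt b :=
  ⟨k, (sect_map k b).symm.trans (congrArg sect w)⟩

lemma hom_unit_ext {W : Over B} (a b : W ⟶ 𝟙_ (Over B)) : a = b :=
  (toUnit_unique a (toUnit W)).trans (toUnit_unique b (toUnit W)).symm

/-- naturality of a conjugate -/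
lemma conj_nat {C : Type*} [Category C] {A A' Y₁ Y₁' Y₂ Y₂' : C} (a : A ⟶ Y₁) (a' : A' ⟶ Y₁') [IsIso a]
    [IsIso a'] (t : A ⟶ A) (t' : A' ⟶ A') (b : A ⟶ Y₂) (b' : A' ⟶ Y₂') (Q : A' ⟶ A) (M₁ : Y₁' ⟶ Y₁)
    (M₂ : Y₂' ⟶ Y₂) (n₁ : a' ≫ M₁ = Q ≫ a) (n₂ : b' ≫ M₂ = Q ≫ b) (n₃ : Q ≫ t = t' ≫ Q) :
    (inv a' ≫ t' ≫ b') ≫ M₂ = M₁ ≫ inv a ≫ t ≫ b := by
  rw [Category.assoc, Category.assoc, n₂, IsIso.inv_comp_eq, reassoc_of% n₁, IsIso.hom_inv_id_assoc,
    ← Category.assoc, ← n₃, Category.assoc]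

section Triv

variable {T T' : Over S} {k : T' ⟶ T}

/-- trivialisations of a family of torsors over the test schemes over `k` -/
structure Triv (y : FibCat.overCat T ⥤ᵇ SpBG Scheme.fppfPrecoverage G) (k : T' ⟶ T)
    (b' : (AlgSp.yon S).obj T' ⟶ B) where
  /-- the trivialisations -/
  τ : ∀ {V : Over S} (f : V ⟶ T'),
    triv Scheme.fppfPrecoverage (trivGAction G) (unitPt ((AlgSp.yon S).map f ≫ b')) ⟶ y.obj (Over.mk (f ≫ k))
  lift : ∀ {V : Over S} (f : V ⟶ T'), (SpBG Scheme.fppfPrecoverage G).p.IsHomLift (𝟙 V) (τ f)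
  nat : ∀ {V W : Over S} (j : W ⟶ V) (f : V ⟶ T') (f' : W ⟶ T') (hf : j ≫ f = f')
    (m : Over.mk (f' ≫ k) ⟶ Over.mk (f ≫ k)) (_ : m.left = j),
    τ f' ≫ y.map m = (spQuotMap Scheme.fppfPrecoverage G (trivGAction G)).map
      (unitHom j (b := (AlgSp.yon S).map f ≫ b') (b' := (AlgSp.yon S).map f' ≫ b')
        (by rw [← hf, Functor.map_comp, Category.assoc])) ≫ τ f

theorem exists_triv_fun (y : FibCat.overCat T ⥤ᵇ SpBG Scheme.fppfPrecoverage G) (k : T' ⟶ T)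
    (hB : ∀ V : Over S, Subsingleton ((AlgSp.yon S).obj V ⟶ B)) (b' : (AlgSp.yon S).obj T' ⟶ B)
    (A : SpQuotObj Scheme.fppfPrecoverage G (trivGAction G)) (hA : y.obj (Over.mk (𝟙 T)) = A)
    (hs : ∃ s : (AlgSp.yon S).obj T' ⟶ A.P.left,
      s ≫ A.π.left ≫ (AlgSp.yon S).map (eqToHom (show A.base = T from hA ▸ y.w_obj (Over.mk (𝟙 T)))) =
        (AlgSp.yon S).map k) :
    Nonempty (Triv y k b') := by
  subst hA
  obtain ⟨s, hs⟩ := hs
  let A := y.obj (Over.mk (𝟙 T))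
  have hgF : FibCat.IsFibGrpd (SpBG Scheme.fppfPrecoverage G).p := isFibGrpd
  let σ : ∀ {V : Over S} (f : V ⟶ T'), ptOver (unitPt ((AlgSp.yon S).map f ≫ b')) ⟶ A.P := fun {V} f =>
    Over.homMk ((AlgSp.yon S).map f ≫ s) (by
      exact (hB V).elim _ _)
  let q : ∀ {V : Over S} (f : V ⟶ T'),
      triv Scheme.fppfPrecoverage (trivGAction G) (unitPt ((AlgSp.yon S).map f ≫ b')) ⟶ A := fun f =>
    homOfPt A _ (σ f) (hom_unit_ext _ _)
  have qb : ∀ {V : Over S} (f : V ⟶ T'), (q f).base ≫ eqToHom (y.w_obj _) = f ≫ k := fun {V} f => by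
    apply (AlgSp.yon S).map_injective
    rw [Functor.map_comp]
    refine (congrArg (fun x => x ≫ (AlgSp.yon S).map (eqToHom (y.w_obj (Over.mk (𝟙 T))))) ((AlgSp.yon S).map_preimage _)).trans ?_
    show (((AlgSp.yon S).map f ≫ s) ≫ A.π.left) ≫ _ = _
    rw [Category.assoc, Category.assoc, hs, ← Functor.map_comp]
  have ql : ∀ {V : Over S} (f : V ⟶ T'), (SpBG Scheme.fppfPrecoverage G).p.IsHomLift (f ≫ k) (q f) :=
    fun {V} f => IsHomLift.of_fac' _ _ _ rfl (y.w_obj _) (by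
      have e := congrArg (fun x => x ≫ eqToHom (y.w_obj (Over.mk (𝟙 T))).symm) (qb f)
      simp at e
      show (q f).base = eqToHom rfl ≫ (f ≫ k) ≫ eqToHom (y.w_obj (Over.mk (𝟙 T))).symm
      simp
      exact e)
  have key : ∀ {V : Over S} (f : V ⟶ T'), ∃ e : triv Scheme.fppfPrecoverage (trivGAction G)
      (unitPt ((AlgSp.yon S).map f ≫ b')) ≅ y.obj (Over.mk (f ≫ k)),
      (SpBG Scheme.fppfPrecoverage G).p.IsHomLift (𝟙 V) e.hom ∧
        e.hom ≫ y.map (toTerm (Over.mk (f ≫ k))) = q f := fun {V} f =>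
    haveI := ql f
    haveI : (SpBG Scheme.fppfPrecoverage G).p.IsHomLift (f ≫ k) (y.map (toTerm (Over.mk (f ≫ k)))) :=
      map_toTerm_lift y (Over.mk (f ≫ k))
    exists_iso_of_lifts hgF (f ≫ k) (q f) (y.map (toTerm (Over.mk (f ≫ k))))
  choose e hel hee using @key
  refine ⟨⟨fun f => (e f).hom, fun f => hel f, fun {V W} j f f' hf m hm => ?_⟩⟩
  subst hf
  haveI := hel f; haveI := hel (j ≫ f)
  haveI hl1 : (SpBG Scheme.fppfPrecoverage G).p.IsHomLift j (y.map m) := by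
    exact Eq.subst (motive := fun a => (SpBG Scheme.fppfPrecoverage G).p.IsHomLift a (y.map m)) hm (map_over_lift y m)
  let u : unitPt ((AlgSp.yon S).map (j ≫ f) ≫ b') ⟶ unitPt ((AlgSp.yon S).map f ≫ b') :=
    unitHom j (by rw [Functor.map_comp, Category.assoc])
  haveI hl2 : (SpBG Scheme.fppfPrecoverage G).p.IsHomLift j
      ((spQuotMap Scheme.fppfPrecoverage G (trivGAction G)).map u) :=
    IsHomLift.map (SpBG Scheme.fppfPrecoverage G).p ((spQuotMap Scheme.fppfPrecoverage G (trivGAction G)).map u)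
  haveI : (SpBG Scheme.fppfPrecoverage G).p.IsHomLift (f ≫ k) (y.map (toTerm (Over.mk (f ≫ k)))) :=
    map_toTerm_lift y (Over.mk (f ≫ k))
  haveI := FC16.isStronglyCartesian hgF (f ≫ k) (y.map (toTerm (Over.mk (f ≫ k))))
  haveI : (SpBG Scheme.fppfPrecoverage G).p.IsHomLift j ((e (j ≫ f)).hom ≫ y.map m) := by
    have h : (SpBG Scheme.fppfPrecoverage G).p.IsHomLift (𝟙 W ≫ j) ((e (j ≫ f)).hom ≫ y.map m) := inferInstance
    rwa [Category.id_comp] at h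
  haveI : (SpBG Scheme.fppfPrecoverage G).p.IsHomLift j
      ((spQuotMap Scheme.fppfPrecoverage G (trivGAction G)).map u ≫ (e f).hom) := by
    have h : (SpBG Scheme.fppfPrecoverage G).p.IsHomLift (j ≫ 𝟙 V)
        ((spQuotMap Scheme.fppfPrecoverage G (trivGAction G)).map u ≫ (e f).hom) := inferInstance
    rwa [Category.comp_id] at h
  show (e (j ≫ f)).hom ≫ y.map m = (spQuotMap Scheme.fppfPrecoverage G (trivGAction G)).map u ≫ (e f).hom
  apply Functor.IsStronglyCartesian.ext (SpBG Scheme.fppfPrecoverage G).p (f ≫ k)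
    (y.map (toTerm (Over.mk (f ≫ k)))) j
  refine (Category.assoc _ _ _).trans (Eq.trans ?_ (Category.assoc _ _ _).symm)
  refine Eq.trans ?_ (congrArg (fun x =>
    (spQuotMap Scheme.fppfPrecoverage G (trivGAction G)).map u ≫ x) (hee f).symm)
  refine (congrArg (fun x => (e (j ≫ f)).hom ≫ x) ((y.toFunctor.map_comp _ _).symm.trans
    (congrArg (fun x => y.map x) (Over.OverMorphism.ext
      (show m.left ≫ f ≫ k = (j ≫ f) ≫ k by rw [hm, Category.assoc]) :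
      m ≫ toTerm (Over.mk (f ≫ k)) = toTerm (Over.mk ((j ≫ f) ≫ k)))))).trans ?_
  refine (hee (j ≫ f)).trans ?_
  refine hom_ext_sec (Over.OverMorphism.ext ?_)
  rw [sec_precomp]
  simp only [q, sec_homOfPt]
  show (AlgSp.yon S).map (j ≫ f) ≫ s = (AlgSp.yon S).map j ≫ (AlgSp.yon S).map f ≫ s
  rw [Functor.map_comp, Category.assoc]

end Triv

section Local

variable {T T' : Over S} (k : T' ⟶ T) (b' : (AlgSp.yon S).obj T' ⟶ B)

/-- the scheme of a unit point over `B` -/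
noncomputable abbrev ptB {V : Over S} (f : V ⟶ T') : Over B :=
  ptOver (X := 𝟙_ (Over B)) (unitPt ((AlgSp.yon S).map f ≫ b'))

/-- the underlying map of a point of the group -/
noncomputable def gval {V : Over S} {f : V ⟶ T'} (γ : ptB b' f ⟶ G) : (AlgSp.yon S).obj V ⟶ G.left := γ.left

/-- translation of the trivial torsor by a point of the group -/
noncomputable def trans {V : Over S} (f : V ⟶ T') (γ : ptB b' f ⟶ G) :
    triv Scheme.fppfPrecoverage (trivGAction G) (unitPt ((AlgSp.yon S).map f ≫ b')) ⟶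
      triv Scheme.fppfPrecoverage (trivGAction G) (unitPt ((AlgSp.yon S).map f ≫ b')) :=
  homOfPt (triv Scheme.fppfPrecoverage (trivGAction G) (unitPt ((AlgSp.yon S).map f ≫ b'))) _
    (lift γ (𝟙 _)) (hom_unit_ext _ _)

lemma trans_lift {V : Over S} (f : V ⟶ T') (γ : ptB b' f ⟶ G) :
    (SpBG Scheme.fppfPrecoverage G).p.IsHomLift (𝟙 V) (trans b' f γ) := by
  have e : (trans b' f γ).base = 𝟙 V := (AlgSp.yon S).map_injective (by
    refine ((AlgSp.yon S).map_preimage _).trans ?_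
    exact (congrArg (fun q => q.left) (lift_snd γ (𝟙 _))).trans ((AlgSp.yon S).map_id V).symm)
  rw [← e]
  exact IsHomLift.map (SpBG Scheme.fppfPrecoverage G).p (trans b' f γ)

lemma trans_fst {V : Over S} (f : V ⟶ T') (γ : ptB b' f ⟶ G) :
    sec (trans b' f γ) ≫ fst G _ = γ :=
  (congrArg (fun q => q ≫ fst G _) (sec_homOfPt _ _ _ _)).trans (lift_fst _ _)

lemma eq_trans' {V : Over S} (f : V ⟶ T')
    (n : triv Scheme.fppfPrecoverage (trivGAction G) (unitPt ((AlgSp.yon S).map f ≫ b')) ⟶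
      triv Scheme.fppfPrecoverage (trivGAction G) (unitPt ((AlgSp.yon S).map f ≫ b')))
    [(SpBG Scheme.fppfPrecoverage G).p.IsHomLift (𝟙 V) n] : trans b' f (sec n ≫ fst G _) = n := by
  have hb : n.base = 𝟙 V := base_eq_of_lift_self (𝟙 V) n
  refine hom_ext_sec ?_
  refine (sec_homOfPt _ _ _ _).trans ?_
  apply CartesianMonoidalCategory.hom_ext
  · exact lift_fst _ _
  · refine (lift_snd _ _).trans ?_
    refine Eq.trans ?_ (sec_π n).symm
    apply Over.OverMorphism.ext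
    show (𝟙 (ptB b' f) : ptB b' f ⟶ ptB b' f).left = (AlgSp.yon S).map n.base
    rw [hb]
    exact ((AlgSp.yon S).map_id V).symm

lemma trans_nat {V W : Over S} (j : W ⟶ V) (f : V ⟶ T') (f' : W ⟶ T') (hf : j ≫ f = f')
    (γ : ptB b' f ⟶ G) (γ' : ptB b' f' ⟶ G) (hγ : γ'.left = (AlgSp.yon S).map j ≫ γ.left)
    (w : (AlgSp.yon S).map j ≫ (AlgSp.yon S).map f ≫ b' = (AlgSp.yon S).map f' ≫ b') :
    (spQuotMap Scheme.fppfPrecoverage G (trivGAction G)).map (unitHom j w) ≫ trans b' f γ =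
      trans b' f' γ' ≫ (spQuotMap Scheme.fppfPrecoverage G (trivGAction G)).map (unitHom j w) := by
  have wj : (AlgSp.yon S).map j ≫ secYon (unitPt ((AlgSp.yon S).map f ≫ b')) ≫ (𝟙_ (Over B)).hom =
      secYon (unitPt ((AlgSp.yon S).map f' ≫ b')) ≫ (𝟙_ (Over B)).hom := by
    rw [secYon_unitPt, secYon_unitPt, ← Category.assoc, ← Category.assoc]
    exact congrArg (fun q => q ≫ (𝟙_ (Over B)).hom) ((Category.assoc _ _ _).trans w)
  refine hom_ext_sec (Over.OverMorphism.ext ?_)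
  rw [sec_precomp, sec_comp]
  simp only [trans, sec_homOfPt]
  show ((AlgSp.yon S).map j ≫ (lift γ (𝟙 (ptB b' f))).left) =
    ((lift γ' (𝟙 (ptB b' f'))) ≫ (G ◁ bHom j wj)).left
  show (bHom j wj ≫ lift γ (𝟙 (ptB b' f))).left = _
  congr 1
  apply CartesianMonoidalCategory.hom_ext
  · simp only [Category.assoc, lift_fst, whiskerLeft_fst]
    exact Over.OverMorphism.ext hγ.symm
  · simp only [Category.assoc, lift_snd, whiskerLeft_snd, lift_snd_assoc, Category.comp_id, Category.id_comp]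

end Local

section Global

variable (hB : ∀ V : Over S, Subsingleton ((AlgSp.yon S).obj V ⟶ B))
variable {T T' : Over S}
  (z : FibCat.overCat T ⥤ᵇ FibCat.fp (FibCat.toSelf (SpBG Scheme.fppfPrecoverage G))
    (FibCat.toSelf (SpBG Scheme.fppfPrecoverage G)))

/-- the isomorphism sheaf of a pair of torsors -/
noncomputable abbrev torsIso : AlgSp.Sp S :=
  isoSheaf (isFibGrpd (G := G) (aX := trivGAction G)) z (fun _ W hW => gluesHom hW)

/-- its projection -/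
noncomputable abbrev torsIsoπ : torsIso z ⟶ (AlgSp.yon S).obj T :=
  spMapOfOver (isoLeg (isFibGrpd (G := G) (aX := trivGAction G)) z (fun _ W hW => gluesHom hW))

/-- points of the isomorphism sheaf -/
noncomputable def torsPt {V : Over S} :
    ((AlgSp.yon S).obj V ⟶ torsIso z) ≃ IsoPt (fstOf z) (sndOf z) V :=
  sect

lemma torsPt_map {V W : Over S} (j : W ⟶ V) (x : (AlgSp.yon S).obj V ⟶ torsIso z) :
    torsPt z ((AlgSp.yon S).map j ≫ x) =
      (torsPt z x).map (isFibGrpd (G := G) (aX := trivGAction G)) j :=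
  sect_map j x

lemma comp_torsIsoπ {V : Over S} (x : (AlgSp.yon S).obj V ⟶ torsIso z) :
    x ≫ torsIsoπ z = (AlgSp.yon S).map (torsPt z x).g := by
  apply (sect (T := V) (F := (AlgSp.yon S).obj T)).injective
  rw [sect_comp]
  refine (isoLeg_spMap _ z _ V (torsPt z x)).trans ?_
  apply ULift.ext
  exact (Category.id_comp _).symm

variable (k : T' ⟶ T) {b' : (AlgSp.yon S).obj T' ⟶ B}
  (τ₁ : Triv (fstOf z) k b') (τ₂ : Triv (sndOf z) k b')

instance τ_isIso {y : FibCat.overCat T ⥤ᵇ SpBG Scheme.fppfPrecoverage G} (τ : Triv y k b')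
    {V : Over S} (f : V ⟶ T') : IsIso (τ.τ f) :=
  @FC16.isIso_of_vertical _ _ _ _ (SpBG Scheme.fppfPrecoverage G).p isFibGrpd _ _ _ _ (τ.lift f)

lemma locPt_lift {V : Over S} (f : V ⟶ T') (γ : ptB b' f ⟶ G) :
    (SpBG Scheme.fppfPrecoverage G).p.IsHomLift (𝟙 V) (inv (τ₁.τ f) ≫ trans b' f γ ≫ τ₂.τ f) := by
  haveI := τ₁.lift f; haveI := τ₂.lift f; haveI := trans_lift b' f γ
  have h : (SpBG Scheme.fppfPrecoverage G).p.IsHomLift (𝟙 V ≫ 𝟙 V) (trans b' f γ ≫ τ₂.τ f) := inferInstance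
  rw [Category.id_comp] at h
  have h' : (SpBG Scheme.fppfPrecoverage G).p.IsHomLift (𝟙 V ≫ 𝟙 V)
      (inv (τ₁.τ f) ≫ trans b' f γ ≫ τ₂.τ f) := inferInstance
  rwa [Category.id_comp] at h'

/-- the isomorphism attached to a point of the group -/
noncomputable def locPt {V : Over S} (f : V ⟶ T') (γ : ptB b' f ⟶ G) : IsoPt (fstOf z) (sndOf z) V where
  g := f ≫ k
  h := inv (τ₁.τ f) ≫ trans b' f γ ≫ τ₂.τ f
  lift := locPt_lift z k τ₁ τ₂ f γ

lemma locPt_congr {V : Over S} {f f' : V ⟶ T'} (hf : f = f') (γ : ptB b' f ⟶ G) (γ' : ptB b' f' ⟶ G)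
    (hγ : gval b' γ = gval b' γ') : locPt z k τ₁ τ₂ f γ = locPt z k τ₁ τ₂ f' γ' := by
  subst hf
  exact congrArg (locPt z k τ₁ τ₂ f) (Over.OverMorphism.ext hγ)

lemma locPt_nat {V W : Over S} (j : W ⟶ V) (f : V ⟶ T') (γ : ptB b' f ⟶ G) (γ' : ptB b' (j ≫ f) ⟶ G)
    (hγ : gval b' γ' = (AlgSp.yon S).map j ≫ gval b' γ) :
    (locPt z k τ₁ τ₂ f γ).map (isFibGrpd (G := G) (aX := trivGAction G)) j =
      locPt z k τ₁ τ₂ (j ≫ f) γ' := by
  let m : Over.mk ((j ≫ f) ≫ k) ⟶ Over.mk (f ≫ k) := Over.homMk j (Category.assoc _ _ _).symm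
  refine IsoPt.map_eq _ j (locPt z k τ₁ τ₂ f γ) (locPt z k τ₁ τ₂ (j ≫ f) γ') m rfl ?_
  have w : (AlgSp.yon S).map j ≫ (AlgSp.yon S).map f ≫ b' = (AlgSp.yon S).map (j ≫ f) ≫ b' := by
    rw [Functor.map_comp, Category.assoc]
  have n1 := τ₁.nat j f (j ≫ f) rfl m rfl
  have n2 := τ₂.nat j f (j ≫ f) rfl m rfl
  have n3 := trans_nat b' j f (j ≫ f) rfl γ γ' hγ w
  exact conj_nat (τ₁.τ f) (τ₁.τ (j ≫ f)) (trans b' f γ) (trans b' (j ≫ f) γ') (τ₂.τ f) (τ₂.τ (j ≫ f))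
    ((spQuotMap Scheme.fppfPrecoverage G (trivGAction G)).map (unitHom j w)) ((fstOf z).map m)
    ((sndOf z).map m) n1 n2 n3

omit [GrpObj G] in
/-- the base point of a point of a trivial torsor -/
noncomputable def locF (G : Over B) {V : Over S} (b' : (AlgSp.yon S).obj T' ⟶ B)
    (x : (AlgSp.yon S).obj V ⟶ (G ⊗ Over.mk b').left) : V ⟶ T' :=
  (AlgSp.yon S).preimage (x ≫ (snd G (Over.mk b')).left)

omit [GrpObj G] in
lemma map_locF {V : Over S} (x : (AlgSp.yon S).obj V ⟶ (G ⊗ Over.mk b').left) :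
    (AlgSp.yon S).map (locF G b' x) = x ≫ (snd G (Over.mk b')).left :=
  Functor.map_preimage _ _

include hB in
omit [GrpObj G] in
lemma exists_locγ {V : Over S} (x : (AlgSp.yon S).obj V ⟶ (G ⊗ Over.mk b').left) :
    ∃ γ : ptB b' (locF G b' x) ⟶ G, gval b' γ = x ≫ (fst G (Over.mk b')).left :=
  ⟨Over.homMk (x ≫ (fst G (Over.mk b')).left) ((hB V).elim _ _), rfl⟩

include hB in
theorem exists_locMap :
    ∃ t : (G ⊗ Over.mk b').left ⟶ torsIso z, ∀ {V : Over S} (x : (AlgSp.yon S).obj V ⟶ (G ⊗ Over.mk b').left)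
      (γ : ptB b' (locF G b' x) ⟶ G), gval b' γ = x ≫ (fst G (Over.mk b')).left →
      torsPt z (x ≫ t) = locPt z k τ₁ τ₂ (locF G b' x) γ := by
  choose γ hγ using fun V => exists_locγ (G := G) (b' := b') hB (V := V)
  let F := fun (V : Over S) (x : (AlgSp.yon S).obj V ⟶ (G ⊗ Over.mk b').left) =>
    (torsPt z).symm (locPt z k τ₁ τ₂ (locF G b' x) (γ V x))
  have hn : ∀ {V W : Over S} (j : W ⟶ V) (x : (AlgSp.yon S).obj V ⟶ (G ⊗ Over.mk b').left),
      F W ((AlgSp.yon S).map j ≫ x) = (AlgSp.yon S).map j ≫ F V x := by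
    intro V W j x
    apply (torsPt z).injective
    rw [torsPt_map, Equiv.apply_symm_apply, Equiv.apply_symm_apply]
    have hf : locF G b' ((AlgSp.yon S).map j ≫ x) = j ≫ locF G b' x := (AlgSp.yon S).map_injective (by
      rw [Functor.map_comp, map_locF, map_locF, Category.assoc])
    let γ' : ptB b' (j ≫ locF G b' x) ⟶ G :=
      Over.homMk ((AlgSp.yon S).map j ≫ gval b' (γ V x)) ((hB W).elim _ _)
    rw [locPt_nat z k τ₁ τ₂ j _ (γ V x) γ' rfl]
    refine locPt_congr z k τ₁ τ₂ hf _ γ' ?_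
    rw [hγ]
    show ((AlgSp.yon S).map j ≫ x) ≫ _ = (AlgSp.yon S).map j ≫ gval b' (γ V x)
    rw [hγ, Category.assoc]
  refine ⟨homOfYon F hn, fun {V} x γ₀ h₀ => ?_⟩
  rw [comp_homOfYon, Equiv.apply_symm_apply]
  exact locPt_congr z k τ₁ τ₂ rfl _ _ ((hγ V x).trans h₀.symm)

include hB in
theorem exists_locInv {V : Over S} (f : V ⟶ T') (pa : IsoPt (fstOf z) (sndOf z) V) (hg : pa.g = f ≫ k) :
    ∃ γ : ptB b' f ⟶ G, locPt z k τ₁ τ₂ f γ = pa := by
  let ν : triv Scheme.fppfPrecoverage (trivGAction G) (unitPt ((AlgSp.yon S).map f ≫ b')) ⟶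
      triv Scheme.fppfPrecoverage (trivGAction G) (unitPt ((AlgSp.yon S).map f ≫ b')) :=
    τ₁.τ f ≫ pa.homAt (f ≫ k) hg ≫ inv (τ₂.τ f)
  haveI : (SpBG Scheme.fppfPrecoverage G).p.IsHomLift (𝟙 V) ν := by
    haveI := τ₁.lift f; haveI := τ₂.lift f; haveI := pa.homAt_lift (f ≫ k) hg
    have h : (SpBG Scheme.fppfPrecoverage G).p.IsHomLift (𝟙 V ≫ 𝟙 V)
        (pa.homAt (f ≫ k) hg ≫ inv (τ₂.τ f)) := inferInstance
    rw [Category.id_comp] at h
    have h' : (SpBG Scheme.fppfPrecoverage G).p.IsHomLift (𝟙 V ≫ 𝟙 V) ν := inferInstance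
    rwa [Category.id_comp] at h'
  refine ⟨sec ν ≫ fst G _, IsoPt.eq_of_homAt (g := f ≫ k) rfl hg ?_⟩
  show inv (τ₁.τ f) ≫ trans b' f (sec ν ≫ fst G _) ≫ τ₂.τ f = pa.homAt (f ≫ k) hg
  rw [eq_trans' b' f ν]
  simp [ν]

lemma locPt_inj {V : Over S} (f : V ⟶ T') (γ γ' : ptB b' f ⟶ G)
    (e : locPt z k τ₁ τ₂ f γ = locPt z k τ₁ τ₂ f γ') : γ = γ' := by
  have e4 : inv (τ₁.τ f) ≫ trans b' f γ ≫ τ₂.τ f = inv (τ₁.τ f) ≫ trans b' f γ' ≫ τ₂.τ f :=
    IsoPt.homAt_congr e (g := f ≫ k) rfl rfl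
  rw [cancel_epi, cancel_mono] at e4
  exact (trans_fst b' f γ).symm.trans ((congrArg (fun q => sec q ≫ fst G _) e4).trans (trans_fst b' f γ'))

omit [GrpObj G] in
include hB in
lemma exists_point {V : Over S} (b : (AlgSp.yon S).obj V ⟶ (AlgSp.yon S).obj T') (f : V ⟶ T')
    (hf : (AlgSp.yon S).map f = b) (γ : ptB b' f ⟶ G) :
    ∃ x : (AlgSp.yon S).obj V ⟶ (G ⊗ Over.mk b').left,
      x ≫ (fst G (Over.mk b')).left = gval b' γ ∧ x ≫ (snd G (Over.mk b')).left = b :=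
  ⟨(lift γ (Over.homMk b ((hB V).elim _ _) : ptB b' f ⟶ Over.mk b')).left,
    congrArg (fun q => q.left) (lift_fst γ _),
    congrArg (fun q => q.left) (lift_snd γ (Over.homMk b ((hB V).elim _ _) : ptB b' f ⟶ Over.mk b'))⟩

include hB τ₁ τ₂ in
theorem exists_isPullback_local :
    ∃ t, IsPullback t (snd G (Over.mk b')).left (torsIsoπ z) ((AlgSp.yon S).map k) := by
  obtain ⟨t, ht⟩ := exists_locMap hB z k τ₁ τ₂
  refine ⟨t, isPullback_of_yon (hom_ext_yon fun V x => ?_) fun V a b hab => ?_⟩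
  · obtain ⟨γ, hγ⟩ := exists_locγ (G := G) (b' := b') hB x
    rw [← Category.assoc, comp_torsIsoπ, ht x γ hγ, ← Category.assoc, ← map_locF, ← Functor.map_comp]
    rfl
  · obtain ⟨f, hf⟩ : ∃ f : V ⟶ T', (AlgSp.yon S).map f = b := ⟨_, Functor.map_preimage _ _⟩
    have hg : (torsPt z a).g = f ≫ k := (AlgSp.yon S).map_injective (by
      rw [Functor.map_comp, hf, ← hab, comp_torsIsoπ])
    obtain ⟨γ, hγ⟩ := exists_locInv hB z k τ₁ τ₂ f (torsPt z a) hg
    obtain ⟨x, hx1, hx2⟩ := exists_point hB b f hf γ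
    have hfx : locF G b' x = f := (AlgSp.yon S).map_injective (by rw [map_locF, hx2, hf])
    obtain ⟨γx, hγx⟩ := exists_locγ (G := G) (b' := b') hB x
    refine ⟨x, ⟨(torsPt z).injective ?_, hx2⟩, fun x' hx' => ?_⟩
    · exact (ht x γx hγx).trans ((locPt_congr z k τ₁ τ₂ hfx γx γ (hγx.trans hx1)).trans hγ)
    · obtain ⟨h1, h2⟩ := hx'
      have hfx' : locF G b' x' = f := (AlgSp.yon S).map_injective (by rw [map_locF, h2, hf])
      obtain ⟨γ'', hγ''⟩ : ∃ γ'' : ptB b' f ⟶ G, gval b' γ'' = x' ≫ (fst G (Over.mk b')).left :=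
        ⟨Over.homMk (x' ≫ (fst G (Over.mk b')).left) ((hB V).elim _ _), rfl⟩
      obtain ⟨γ₁, hγ₁⟩ := exists_locγ (G := G) (b' := b') hB x'
      have e := locPt_inj z k τ₁ τ₂ f γ'' γ
        ((locPt_congr z k τ₁ τ₂ hfx' γ₁ γ'' (hγ₁.trans hγ''.symm)).symm.trans
          ((ht x' γ₁ hγ₁).symm.trans ((congrArg (torsPt z) h1).trans hγ.symm)))
      apply (isPullback_left_unit' (G := G) (Over.mk b')).hom_ext
      · rw [hx1, ← e, hγ'']
      · rw [hx2, h2]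

include hB in
theorem exists_family (z : FibCat.overCat T ⥤ᵇ FibCat.fp (FibCat.toSelf (SpBG Scheme.fppfPrecoverage G))
      (FibCat.toSelf (SpBG Scheme.fppfPrecoverage G))) :
    ∃ (κ : Type u) (Ti : κ → Over S) (f : ∀ i, Ti i ⟶ T),
      (∀ i, Flat (f i).left) ∧ (∀ i, LocallyOfFinitePresentation (f i).left) ∧
      (∀ x : T.left, ∃ i y, (f i).left y = x) ∧
      ∀ i, ∃ (b' : (AlgSp.yon S).obj (Ti i) ⟶ B) (t : _),
        IsPullback t (snd G (Over.mk b')).left (torsIsoπ z) ((AlgSp.yon S).map (f i)) := by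
  obtain ⟨A₁, hA₁⟩ : ∃ A, (fstOf z).obj (Over.mk (𝟙 T)) = A := ⟨_, rfl⟩
  obtain ⟨A₂, hA₂⟩ : ∃ A, (sndOf z).obj (Over.mk (𝟙 T)) = A := ⟨_, rfl⟩
  have e₁ : A₁.base = T := hA₁ ▸ (fstOf z).w_obj (Over.mk (𝟙 T))
  have e₂ : A₂.base = T := hA₂ ▸ (sndOf z).w_obj (Over.mk (𝟙 T))
  obtain ⟨R₁, hR₁, hs₁⟩ := hasSecLoc_πOn A₁ e₁
  obtain ⟨R₂, hR₂, hs₂⟩ := hasSecLoc_πOn A₂ e₂
  obtain ⟨hj₁, hp₁⟩ := Quot16.mem_fppf_iff hR₁
  obtain ⟨hj₂, hp₂⟩ := Quot16.mem_fppf_iff hR₂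
  choose Z₁ f₁ hf₁ z₁ hz₁ using hj₁
  choose Z₂ f₂ hf₂ z₂ hz₂ using hj₂
  let fI : ∀ x : T.left × T.left, pullback (f₁ x.1) (f₂ x.2) ⟶ T.left := fun x =>
    pullback.fst _ _ ≫ f₁ x.1
  refine ⟨T.left × T.left, fun x => Over.mk (fI x ≫ T.hom), fun x => Over.homMk (fI x) rfl,
    fun x => ?_, fun x => ?_, fun p => ?_, fun x => ?_⟩
  · haveI := (hp₁ (hf₁ x.1)).1; haveI := (hp₂ (hf₂ x.2)).1
    show Flat (fI x); infer_instance
  · haveI := (hp₁ (hf₁ x.1)).2; haveI := (hp₂ (hf₂ x.2)).2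
    show LocallyOfFinitePresentation (fI x); infer_instance
  · obtain ⟨w, hw1, -⟩ := Scheme.Pullback.exists_preimage_pullback (f := f₁ p) (g := f₂ p) (z₁ p) (z₂ p)
      (by rw [hz₁, hz₂])
    refine ⟨(p, p), w, ?_⟩
    show (pullback.fst (f₁ p) (f₂ p) ≫ f₁ p) w = p
    rw [Scheme.Hom.comp_apply, hw1, hz₁]
  · obtain ⟨s₁, hs₁'⟩ := hs₁ (f₁ x.1) (hf₁ x.1)
    obtain ⟨s₂, hs₂'⟩ := hs₂ (f₂ x.2) (hf₂ x.2)
    let T' : Over S := Over.mk (fI x ≫ T.hom)
    let k : T' ⟶ T := Over.homMk (fI x) rfl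
    let k₁ : T' ⟶ Over.mk (f₁ x.1 ≫ T.hom) := Over.homMk (pullback.fst _ _) (Category.assoc _ _ _).symm
    let k₂ : T' ⟶ Over.mk (f₂ x.2 ≫ T.hom) := Over.homMk (pullback.snd _ _) (by
      show pullback.snd _ _ ≫ f₂ x.2 ≫ T.hom = (pullback.fst _ _ ≫ f₁ x.1) ≫ T.hom
      rw [← pullback.condition_assoc, Category.assoc])
    have hk₁ : k₁ ≫ Over.homMk (f₁ x.1) = k := Over.OverMorphism.ext rfl
    have hk₂ : k₂ ≫ Over.homMk (f₂ x.2) = k := Over.OverMorphism.ext pullback.condition.symm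
    let b' : (AlgSp.yon S).obj T' ⟶ B := ((AlgSp.yon S).map k₁ ≫ s₁) ≫ A₁.P.hom
    obtain ⟨τ₁⟩ := exists_triv_fun (fstOf z) k hB b' A₁ hA₁ ⟨(AlgSp.yon S).map k₁ ≫ s₁, by
      rw [Category.assoc]
      exact (congrArg (fun q => (AlgSp.yon S).map k₁ ≫ q) hs₁').trans
        (((AlgSp.yon S).map_comp _ _).symm.trans (congrArg _ hk₁))⟩
    obtain ⟨τ₂⟩ := exists_triv_fun (sndOf z) k hB b' A₂ hA₂ ⟨(AlgSp.yon S).map k₂ ≫ s₂, by
      rw [Category.assoc]
      exact (congrArg (fun q => (AlgSp.yon S).map k₂ ≫ q) hs₂').trans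
        (((AlgSp.yon S).map_comp _ _).symm.trans (congrArg _ hk₂))⟩
    obtain ⟨t, ht⟩ := exists_isPullback_local hB z k τ₁ τ₂
    exact ⟨b', t, ht⟩

include hB in
theorem repWith_diag {P : MorphismProperty (AlgSp.Sp S)}
    (hloc : AlgSp.IsLocalOnBase AlgSp.IsFppfCover P) (hBsp : AlgSp.IsAlgSpace B)
    (hG : AlgSp.IsAlgSpace G.left) (hP : ∀ W : Over B, AlgSp.IsAlgSpace W.left → P (snd G W).left) :
    RepByAlgSpWith P (FibCat.diag (FibCat.toSelf (SpBG Scheme.fppfPrecoverage G))) := by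
  intro T z
  obtain ⟨E, hE, hEq⟩ := exists_equiv (isFibGrpd (G := G) (aX := trivGAction G)) z (fun _ W hW => gluesHom hW)
  obtain ⟨κ, Ti, f, h1, h2, h3, h4⟩ := exists_family hB z
  choose b' t sq using h4
  have hI : AlgSp.IsAlgSpace (torsIso z) := isAlgSpace_of_family (torsIsoπ z) f h1 h2 h3 fun i =>
    (isAlgSpace_tensor hBsp hG (Over.mk (b' i)) (AlgSp.IsAlgSpace.yon_obj (Ti i))).of_iso (sq i).isoPullback
  refine ⟨⟨torsIso z, hI⟩, E, hE, ?_⟩
  rw [hEq]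
  exact (hloc (fun i => (AlgSp.yon S).obj (Ti i)) (fun i => (AlgSp.yon S).map (f i))
    (AlgSp.IsAlgSpace.yon_obj _) (fun i => AlgSp.IsAlgSpace.yon_obj _)
    (isFppfCover_of_family f h1 h2 h3) (torsIsoπ z) hI _ _ t
    (fun i => isAlgSpace_tensor hBsp hG (Over.mk (b' i)) (AlgSp.IsAlgSpace.yon_obj (Ti i))) sq).2
    fun i => hP (Over.mk (b' i)) (AlgSp.IsAlgSpace.yon_obj (Ti i))

end Global

end Groth.Agent.SpQuot16
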